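import Cfsg.Agent.Lib.AltEightNine.Table.Model
import Cfsg.Agent.Lib.MTwelveLocal1344.Quot

/-!
# The elementary subgroup of order eight through a fused class of the core
-/

set_option autoImplicit false
set_option maxRecDepth 100000
set_option linter.unusedSectionVars false
set_option linter.style.haveILetI false

namespace Cfsg.Lib.AltEightNine

open Subgroup

/-- The coordinates of the first elementary subgroup. -/
def eL (c : Fin 8) : Fin 192 := ![0, 60, 180, 120, 6, 66, 186, 126] c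

/-- Membership in an elementary subgroup of the core. -/
def inE (k : ℕ) (i : Fin 192) : Bool := i == 0 || i == bZ || bCls i == k

/-- The number of elements with a given property. -/
def bCount (P : Fin 192 → Bool) : ℕ := ((List.finRange 192).filter P).length

/-- Whether two indices commute. -/
def bCm (i j : Fin 192) : Bool := bMul i j == bMul j i

/-- The intrinsic description of the elementary subgroup through an involution of the core. -/
def inP (r x : Fin 192) : Bool :=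
  bCm x r && bMul x x == 0 &&
    (bCount (fun y => bCm y r && bCm y x) == 8 || bCount (fun y => bCm y r && bCm y x) == 32)

theorem cls_card : ∀ i : Fin 192, bMul i i = 0 → i ≠ 0 → i ≠ bZ →
    (bCls i = 2 ∨ bCls i = 3 ∨ bCls i = 4) ∧ bCount (bCm i) = 32 ∨
      (bCls i = 5 ∨ bCls i = 6) ∧ bCount (bCm i) = 16 := by
  decide +kernel

theorem cls_inv : ∀ i : Fin 192, bCls i ≠ 0 → bMul i i = 0 ∧ i ≠ 0 ∧ (i = bZ ↔ bCls i = 1) := by decide +kernel

theorem inP_sixty : ∀ x : Fin 192, inP 60 x = inE 2 x := by decide +kernel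

theorem inP_cls : ∀ r : Fin 192, (bCls r = 2 ∨ bCls r = 3 ∨ bCls r = 4) → ∀ x, inP r x = inE (bCls r) x := by
  decide +kernel

theorem inE_facts : ∀ k ∈ [2, 3, 4], inE k 0 = true ∧ inE k bZ = true ∧
    (∀ i, inE k i = true → ∀ j, inE k j = true → inE k (bMul i j) = true ∧ bMul i j = bMul j i) ∧
    (∀ i, inE k i = true → bMul i i = 0) ∧ bCount (inE k) = 8 := by
  decide +kernel

theorem inE_conj : ∀ h i : Fin 192, inE 2 (bConj h i) = inE 2 i ∧ inE 3 (bConj h i) = inE 3 i ∧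
    inE 4 (bConj h i) = inE 4 i := by
  decide +kernel

theorem cent_E : ∀ i : Fin 192, (∀ c, bCm i (eL c) = true) → inE 2 i = true := by decide +kernel

theorem eL_facts : (∀ c, inE 2 (eL c) = true) ∧ (∀ i, inE 2 i = true → ∃ c, eL c = i) ∧
    (∀ c d, eL c = eL d → c = d) ∧ eL 4 = bZ ∧ eL 1 = 60 := by decide +kernel

theorem orbit_sixty : ∀ i : Fin 192, bCls i = 2 → ∃ h, bConj h 60 = i := by decide +kernel

/-- The span of three coordinates. -/
def span3 (a b c : Fin 8) : List (Fin 192) :=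
  [0, eL a, eL b, eL c, bMul (eL a) (eL b), bMul (eL a) (eL c), bMul (eL b) (eL c), bMul (bMul (eL a) (eL b)) (eL c)]

/-- Whether three coordinates form a basis. -/
def isBasis (x : Fin 8 × Fin 8 × Fin 8) : Bool :=
  (List.finRange 8).all fun d => (span3 x.1 x.2.1 x.2.2).contains (eL d)

theorem basis_facts : (Finset.univ.filter fun x : Fin 8 × Fin 8 × Fin 8 => isBasis x = true).card = 168 ∧
    isBasis (1, 2, 4) = true := by decide +kernel

universe u

namespace TabSetup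

variable {G : Type u} [Group G] [Finite G] (S : TabSetup G)

/-- The elementary subgroup of a class of the core. -/
def E (k : ℕ) (hk : k ∈ [2, 3, 4]) : Subgroup G where
  carrier := {g | ∃ i, inE k i = true ∧ S.f i = g}
  one_mem' := ⟨0, (inE_facts k hk).1, S.fone⟩
  mul_mem' := by
    rintro _ _ ⟨i, hi, rfl⟩ ⟨j, hj, rfl⟩
    exact ⟨bMul i j, ((inE_facts k hk).2.2.1 i hi j hj).1, S.fmul i j⟩
  inv_mem' := by
    rintro _ ⟨i, hi, rfl⟩
    refine ⟨i, hi, eq_inv_of_mul_eq_one_left ?_⟩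
    rw [← S.fmul, (inE_facts k hk).2.2.2.1 i hi, S.fone]

/-- The first elementary subgroup. -/
abbrev E2 : Subgroup G := S.E 2 (by decide)

theorem cm_iff {i j : Fin 192} : S.f i * S.f j = S.f j * S.f i ↔ bCm i j = true := by
  rw [bCm, beq_iff_eq]
  exact ⟨fun h => S.inj (by rw [S.fmul, S.fmul, h]), fun h => by rw [← S.fmul, ← S.fmul, h]⟩

theorem card_pred (P : Fin 192 → Bool) (Q : G → Prop) (hQ : ∀ g, Q g ↔ ∃ i, P i = true ∧ S.f i = g) :
    Nat.card {g : G // Q g} = bCount P := by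
  rw [bCount, show ((List.finRange 192).filter P).length = Fintype.card {i : Fin 192 // P i = true} from ?_,
    ← Nat.card_eq_fintype_card]
  · refine (Nat.card_eq_of_bijective (fun i : {i : Fin 192 // P i = true} => (⟨S.f i.1, (hQ _).2 ⟨i.1, i.2, rfl⟩⟩ : {g : G // Q g}))
      ⟨fun i j h => Subtype.ext (S.inj (congrArg Subtype.val h)), ?_⟩).symm
    rintro ⟨g, hg⟩
    obtain ⟨i, hi, rfl⟩ := (hQ g).1 hg
    exact ⟨⟨i, hi⟩, rfl⟩
  · rw [Fintype.card_subtype, ← List.toFinset_card_of_nodup ((List.nodup_finRange 192).filter _)]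
    congr 1; ext; simp

theorem card_two (i : Fin 192) :
    Nat.card {g : G // g * S.s = S.s * g ∧ g * S.f i = S.f i * g} = bCount (bCm i) := by
  refine S.card_pred _ _ fun g => ⟨fun ⟨h1, h2⟩ => ?_, ?_⟩
  · obtain ⟨j, rfl⟩ := (S.mem_iff g).1 h1
    exact ⟨j, S.cm_iff.1 h2.symm, rfl⟩
  · rintro ⟨j, hj, rfl⟩
    exact ⟨S.comm_s j, (S.cm_iff.2 hj).symm⟩

/-- The intrinsic description, in the group. -/
def Char8 (a b x : G) : Prop :=
  x * a = a * x ∧ x * b = b * x ∧ x * x = 1 ∧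
    (Nat.card {g : G // g * a = a * g ∧ g * b = b * g ∧ g * x = x * g} = 8 ∨
      Nat.card {g : G // g * a = a * g ∧ g * b = b * g ∧ g * x = x * g} = 32)

theorem conj_comm {g x a : G} : g * x * g⁻¹ * (g * a * g⁻¹) = g * a * g⁻¹ * (g * x * g⁻¹) ↔ x * a = a * x := by
  constructor
  · intro h
    simpa [mul_assoc] using congrArg (fun y => g⁻¹ * y * g) h
  · intro h; simp only [mul_assoc, inv_mul_cancel_left]; rw [← mul_assoc x, h]; simp [mul_assoc]

theorem Char8.conj {a b x : G} (h : Char8 a b x) (g : G) : Char8 (g * a * g⁻¹) (g * b * g⁻¹) (g * x * g⁻¹) := by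
  obtain ⟨h1, h2, h3, h4⟩ := h
  refine ⟨conj_comm.2 h1, conj_comm.2 h2, ?_, ?_⟩
  · rw [show g * x * g⁻¹ * (g * x * g⁻¹) = g * (x * x) * g⁻¹ by group, h3, mul_one, mul_inv_cancel]
  · have e : Nat.card {c : G // c * (g * a * g⁻¹) = g * a * g⁻¹ * c ∧ c * (g * b * g⁻¹) = g * b * g⁻¹ * c ∧
        c * (g * x * g⁻¹) = g * x * g⁻¹ * c} =
      Nat.card {c : G // c * a = a * c ∧ c * b = b * c ∧ c * x = x * c} := by
      refine Nat.card_congr (Equiv.subtypeEquiv (MulAut.conj g⁻¹).toEquiv fun c => ?_)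
      show _ ↔ g⁻¹ * c * g⁻¹⁻¹ * a = a * (g⁻¹ * c * g⁻¹⁻¹) ∧ g⁻¹ * c * g⁻¹⁻¹ * b = b * (g⁻¹ * c * g⁻¹⁻¹) ∧
        g⁻¹ * c * g⁻¹⁻¹ * x = x * (g⁻¹ * c * g⁻¹⁻¹)
      conv_lhs => rw [show c = g * (g⁻¹ * c * g⁻¹⁻¹) * g⁻¹ by group]
      rw [conj_comm, conj_comm, conj_comm]
    rw [e]; exact h4

theorem Char8.symm {a b x : G} (h : Char8 a b x) : Char8 b a x := by
  obtain ⟨h1, h2, h3, h4⟩ := h
  refine ⟨h2, h1, h3, ?_⟩
  rwa [show Nat.card {g : G // g * b = b * g ∧ g * a = a * g ∧ g * x = x * g} =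
    Nat.card {g : G // g * a = a * g ∧ g * b = b * g ∧ g * x = x * g} from
    Nat.card_congr (Equiv.subtypeEquivRight fun g => by tauto)]

theorem char8_iff {r : Fin 192} (hr : bCls r = 2 ∨ bCls r = 3 ∨ bCls r = 4) (hk : bCls r ∈ [2, 3, 4]) {x : G} :
    Char8 S.s (S.f r) x ↔ x ∈ S.E (bCls r) hk := by
  have hcnt : ∀ (i : Fin 192) (g : G),
      (g * S.s = S.s * g ∧ g * S.f r = S.f r * g ∧ g * S.f i = S.f i * g) ↔
        ∃ j, (bCm j r && bCm j i) = true ∧ S.f j = g := by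
    intro i g
    constructor
    · rintro ⟨ha, hb, hc⟩
      obtain ⟨j, rfl⟩ := (S.mem_iff g).1 ha
      exact ⟨j, by simp [S.cm_iff.1 hb, S.cm_iff.1 hc], rfl⟩
    · rintro ⟨j, hj, rfl⟩
      simp only [Bool.and_eq_true] at hj
      exact ⟨S.comm_s j, S.cm_iff.2 hj.1, S.cm_iff.2 hj.2⟩
  constructor
  · rintro ⟨h1, h2, h3, h4⟩
    obtain ⟨i, rfl⟩ := (S.mem_iff x).1 h1
    refine ⟨i, (inP_cls r hr i).symm.trans ?_, rfl⟩
    rw [S.card_pred (fun y => bCm y r && bCm y i) _ (hcnt i)] at h4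
    simp only [inP, Bool.and_eq_true, Bool.or_eq_true, beq_iff_eq]
    exact ⟨⟨S.cm_iff.1 h2, S.inj (by rw [S.fmul, h3, S.fone])⟩, h4⟩
  · rintro ⟨i, hi, rfl⟩
    have h := (inP_cls r hr i).trans hi
    simp only [inP, Bool.and_eq_true, Bool.or_eq_true, beq_iff_eq] at h
    refine ⟨S.comm_s i, S.cm_iff.2 h.1.1, by rw [← S.fmul, h.1.2, S.fone], ?_⟩
    rw [S.card_pred (fun y => bCm y r && bCm y i) _ (hcnt i)]
    exact h.2

/-- The first class of the core is fused to the centre. -/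
def Fused2 : Prop := IsConj S.s (S.f 60)

theorem E_norm (k : ℕ) (hk : k ∈ [2, 3, 4]) {c : G} (hc : c * S.s = S.s * c) {x : G} (hx : x ∈ S.E k hk) :
    c * x * c⁻¹ ∈ S.E k hk := by
  obtain ⟨h, rfl⟩ := (S.mem_iff c).1 hc
  obtain ⟨i, hi, rfl⟩ := hx
  refine ⟨bConj h i, ?_, S.fconj h i⟩
  obtain ⟨e2, e3, e4⟩ := inE_conj h i
  simp only [List.mem_cons, List.not_mem_nil, or_false] at hk
  rcases hk with rfl | rfl | rfl
  · rw [e2]; exact hi
  · rw [e3]; exact hi
  · rw [e4]; exact hi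

theorem s_mem_E2 : S.s ∈ S.E2 := ⟨bZ, by decide +kernel, S.f_z⟩

theorem sixty_mem_E2 : S.f 60 ∈ S.E2 := ⟨60, by decide +kernel, rfl⟩

theorem le_normalizer_E2 {c : G} (hc : c * S.s = S.s * c) : c ∈ normalizer (S.E2 : Set G) :=
  mem_normalizer_fintype fun _ hx => S.E_norm 2 _ hc hx

variable (hF : S.Fused2)
include hF

/-- The data of the exchange: a conjugation moves the involution to a class of the core. -/
theorem exists_swap : ∃ (g : G) (r' : Fin 192), (bCls r' = 2 ∨ bCls r' = 3 ∨ bCls r' = 4) ∧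
    g * S.f 60 * g⁻¹ = S.s ∧ g * S.s * g⁻¹ = S.f r' := by
  obtain ⟨g₀, hg₀⟩ := isConj_iff.1 hF
  have hg : g₀⁻¹ * S.f 60 * g₀⁻¹⁻¹ = S.s := by rw [← hg₀]; group
  set g := g₀⁻¹
  have hcomm : g * S.s * g⁻¹ * S.s = S.s * (g * S.s * g⁻¹) := by
    have := (conj_comm (g := g)).2 (S.comm_s 60).symm
    rwa [hg] at this
  obtain ⟨r', hr'⟩ := (S.mem_iff _).1 hcomm
  have hsq : bMul r' r' = 0 := S.inj (by
    rw [S.fmul, hr', S.fone, show g * S.s * g⁻¹ * (g * S.s * g⁻¹) = g * (S.s * S.s) * g⁻¹ by group, S.s_sq,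
      mul_one, mul_inv_cancel])
  have h0 : r' ≠ 0 := fun e => S.s_ne (by rw [e, S.fone, eq_comm, conj_eq_one_iff] at hr'; exact hr')
  have hz : r' ≠ bZ := fun e => by
    rw [e, S.f_z, ← hg] at hr'
    have h60 : bZ = (60 : Fin 192) := S.inj (by
      rw [S.f_z]
      have := congrArg (fun y => g⁻¹ * y * g) hr'
      simp only [hg] at this
      calc S.s = g⁻¹ * (g * S.s * g⁻¹) * g := by group
        _ = g⁻¹ * (g * S.f 60 * g⁻¹) * g := by rw [hg]; exact this.symm
        _ = S.f 60 := by group)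
    exact absurd h60 (by decide)
  have hcount : bCount (bCm r') = 32 := by
    have h32 : bCount (bCm (60 : Fin 192)) = 32 := by decide +kernel
    have e : Nat.card {c : G // c * S.s = S.s * c ∧ c * S.f 60 = S.f 60 * c} =
        Nat.card {c : G // c * S.s = S.s * c ∧ c * S.f r' = S.f r' * c} := by
      refine Nat.card_congr (Equiv.subtypeEquiv (MulAut.conj g).toEquiv fun c => ?_)
      show _ ↔ g * c * g⁻¹ * S.s = S.s * (g * c * g⁻¹) ∧ g * c * g⁻¹ * S.f r' = S.f r' * (g * c * g⁻¹)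
      rw [hr', conj_comm]
      nth_rw 3 [← hg]
      nth_rw 3 [← hg]
      rw [conj_comm, and_comm]
    rw [S.card_two, S.card_two, h32] at e
    exact e.symm
  rcases cls_card r' hsq h0 hz with ⟨h, -⟩ | ⟨-, h16⟩
  · exact ⟨g, r', h, hg, hr'.symm⟩
  · rw [h16] at hcount; norm_num at hcount

/-- The centraliser of a fused element normalises the elementary subgroup. -/
theorem cent_sixty_le {c : G} (hc : c * S.f 60 = S.f 60 * c) : c ∈ normalizer (S.E2 : Set G) := by
  obtain ⟨g, r', hr', hg, hgs⟩ := S.exists_swap hF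
  have hk : bCls r' ∈ [2, 3, 4] := by rcases hr' with h | h | h <;> simp [h]
  have hmap : ∀ x, x ∈ S.E2 ↔ g * x * g⁻¹ ∈ S.E (bCls r') hk := fun x => by
    constructor
    · intro hx
      have := (((S.char8_iff (r := 60) (Or.inl (by decide +kernel)) (by decide +kernel)).2
        (show x ∈ S.E (bCls 60) _ from hx)).conj g).symm
      rw [hg, hgs] at this
      exact (S.char8_iff hr' hk).1 this
    · intro hx
      have := (((S.char8_iff hr' hk).2 hx).symm).conj g⁻¹
      rw [← hgs, show g⁻¹ * (g * S.s * g⁻¹) * g⁻¹⁻¹ = S.s by group,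
        show g⁻¹ * S.s * g⁻¹⁻¹ = S.f 60 by rw [← hg]; group, show g⁻¹ * (g * x * g⁻¹) * g⁻¹⁻¹ = x by group] at this
      exact (S.char8_iff (r := 60) (Or.inl (by decide +kernel)) (by decide +kernel)).1 this
  refine mem_normalizer_fintype fun x hx => ?_
  have hc' : g * c * g⁻¹ * S.s = S.s * (g * c * g⁻¹) := by rw [← hg, conj_comm]; exact hc
  refine (hmap _).2 ?_
  have := S.E_norm _ hk hc' ((hmap x).1 hx)
  rwa [show g * (c * x * c⁻¹) * g⁻¹ = g * c * g⁻¹ * (g * x * g⁻¹) * (g * c * g⁻¹)⁻¹ by group]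

/-- All involutions of the elementary subgroup are conjugate under its normaliser. -/
theorem trans_E2 {i : Fin 192} (hi : inE 2 i = true) (h0 : i ≠ 0) :
    ∃ n ∈ normalizer (S.E2 : Set G), n * S.s * n⁻¹ = S.f i := by
  have horb : ∀ j, bCls j = 2 → ∃ n ∈ normalizer (S.E2 : Set G), n * S.f 60 * n⁻¹ = S.f j := fun j hj => by
    obtain ⟨h, rfl⟩ := orbit_sixty j hj
    exact ⟨S.f h, S.le_normalizer_E2 (S.comm_s h), (S.fconj h 60).symm⟩
  suffices hs : ∃ n ∈ normalizer (S.E2 : Set G), n * S.s * n⁻¹ = S.f 60 by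
    obtain ⟨n, hn, hns⟩ := hs
    simp only [inE, Bool.or_eq_true, beq_iff_eq] at hi
    rcases hi with (rfl | rfl) | hi
    · exact absurd rfl h0
    · exact ⟨1, one_mem _, by simp [S.f_z]⟩
    · obtain ⟨m, hm, hms⟩ := horb i hi
      exact ⟨m * n, mul_mem hm hn, by rw [← hms, ← hns]; group⟩
  obtain ⟨g, r', hr', hg, hgs⟩ := S.exists_swap hF
  obtain ⟨h, hh⟩ : ∃ h, bConj h r' ≠ r' := (show ∀ r, (bCls r = 2 ∨ bCls r = 3 ∨ bCls r = 4) →
    ∃ h, bConj h r ≠ r by decide +kernel) r' hr'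
  set c := g⁻¹ * S.f h * g with hc
  have hc60 : c * S.f 60 = S.f 60 * c := by
    have := (conj_comm (g := g⁻¹)).2 (S.comm_s h)
    rwa [show g⁻¹ * S.s * g⁻¹⁻¹ = S.f 60 by rw [← hg]; group, inv_inv, ← hc] at this
  have hcN := S.cent_sixty_le hF hc60
  obtain ⟨j, hj, hje⟩ := (mem_normalizer_iff.1 hcN S.s).1 S.s_mem_E2
  have hj2 : bCls j = 2 := by
    simp only [inE, Bool.or_eq_true, beq_iff_eq] at hj
    rcases hj with (rfl | rfl) | hj
    · rw [S.fone, eq_comm, conj_eq_one_iff] at hje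
      exact absurd hje S.s_ne
    · exfalso
      refine hh (S.inj ?_)
      rw [S.fconj, ← hgs]
      have e : c * S.s = S.s * c := by
        rw [S.f_z] at hje
        exact mul_inv_eq_iff_eq_mul.1 hje.symm
      calc S.f h * (g * S.s * g⁻¹) * (S.f h)⁻¹ = g * (c * S.s * c⁻¹) * g⁻¹ := by rw [hc]; group
        _ = g * S.s * g⁻¹ := by rw [e, mul_inv_cancel_right]
    · exact hj
  obtain ⟨m, hm, hms⟩ := horb j hj2
  refine ⟨m⁻¹ * c, mul_mem (inv_mem hm) hcN, ?_⟩
  calc m⁻¹ * c * S.s * (m⁻¹ * c)⁻¹ = m⁻¹ * (c * S.s * c⁻¹) * m := by group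
    _ = m⁻¹ * (m * S.f 60 * m⁻¹) * m := by rw [← hje, hms]
    _ = S.f 60 := by group

omit hF in
theorem E2_cases {x : G} (hx : x ∈ S.E2) : ∃ c, S.f (eL c) = x := by
  obtain ⟨i, hi, rfl⟩ := hx
  obtain ⟨c, rfl⟩ := eL_facts.2.1 i hi
  exact ⟨c, rfl⟩

omit hF in
theorem centralizer_E2 : centralizer (S.E2 : Set G) ≤ S.E2 := by
  intro g hg
  obtain ⟨i, rfl⟩ := (S.mem_iff g).1 (mem_centralizer_iff.1 hg S.s S.s_mem_E2).symm
  exact ⟨i, cent_E i fun c => S.cm_iff.1
    (mem_centralizer_iff.1 hg (S.f (eL c)) ⟨eL c, eL_facts.1 c, rfl⟩).symm, rfl⟩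

omit hF in
theorem card_E2 : Nat.card S.E2 = 8 :=
  (S.card_pred (inE 2) (· ∈ S.E2) fun _ => Iff.rfl).trans (inE_facts 2 (by decide)).2.2.2.2

theorem card_normalizer : Nat.card (normalizer (S.E2 : Set G)) = 1344 := by
  set N := normalizer (S.E2 : Set G) with hN
  let O : Set G := {x | x ∈ S.E2 ∧ x ≠ 1}
  have hO : O.ncard = 7 := by
    have : O = (S.E2 : Set G) \ {1} := rfl
    rw [this, Set.ncard_sdiff_singleton_of_mem (one_mem _), ← Nat.card_coe_set_eq]
    show Nat.card S.E2 - 1 = 7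
    rw [S.card_E2]
  letI : MulAction N G := MulAction.compHom G ((MulAut.conj).comp N.subtype)
  have horb : MulAction.orbit N S.s = O := by
    ext x
    constructor
    · rintro ⟨n, rfl⟩
      refine ⟨(mem_normalizer_iff.1 n.2 S.s).1 S.s_mem_E2, fun h => S.s_ne (conj_eq_one_iff.1 h)⟩
    · rintro ⟨⟨i, hi, rfl⟩, hne⟩
      obtain ⟨n, hn, hns⟩ := S.trans_E2 hF hi fun e => hne (by rw [e, S.fone])
      exact ⟨⟨n, hn⟩, hns⟩
  have hm := Subgroup.card_mul_index (MulAction.stabilizer N S.s)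
  rw [MulAction.index_stabilizer, horb, hO] at hm
  have hst : Nat.card (MulAction.stabilizer N S.s) = 192 := by
    refine (Nat.card_eq_of_bijective (fun i : Fin 192 => (⟨⟨S.f i, S.le_normalizer_E2 (S.comm_s i)⟩, by
      show S.f i * S.s * (S.f i)⁻¹ = S.s
      rw [S.comm_s, mul_inv_cancel_right]⟩ : MulAction.stabilizer N S.s))
      ⟨fun i j h => S.inj (congrArg (fun y : MulAction.stabilizer N S.s => ((y.1 : N) : G)) h), ?_⟩).symm.trans
      (Nat.card_fin 192)
    rintro ⟨⟨n, hn⟩, hns⟩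
    obtain ⟨i, rfl⟩ := (S.mem_iff n).1 (mul_inv_eq_iff_eq_mul.1 hns)
    exact ⟨i, rfl⟩
  omega

/-- The normaliser induces every automorphism of the elementary subgroup. -/
theorem exists_move {a b c : Fin 8} (h : isBasis (a, b, c) = true) :
    ∃ n ∈ normalizer (S.E2 : Set G), n * S.f 60 * n⁻¹ = S.f (eL a) ∧ n * S.f 180 * n⁻¹ = S.f (eL b) ∧
      n * S.s * n⁻¹ = S.f (eL c) := by
  classical
  set N := normalizer (S.E2 : Set G) with hN
  let B := {x : Fin 8 × Fin 8 × Fin 8 // isBasis x = true}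
  have hbasis : ∀ d : Fin 8, eL d ∈ span3 1 2 4 := by decide +kernel
  have hmem : ∀ n ∈ N, ∀ d, ∃ e, S.f (eL e) = n * S.f (eL d) * n⁻¹ := fun n hn d =>
    S.E2_cases ((mem_normalizer_iff.1 hn _).1 ⟨eL d, eL_facts.1 d, rfl⟩)
  choose im him using hmem
  have hspan : ∀ (n : G) (hn : n ∈ N) (d : Fin 8), eL d ∈ span3 1 2 4 → eL (im n hn d) ∈
      span3 (im n hn 1) (im n hn 2) (im n hn 4) := by
    intro n hn d hd
    simp only [span3, List.mem_cons, List.not_mem_nil, or_false] at hd ⊢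
    have e := him n hn d
    rcases hd with h | h | h | h | h | h | h | h <;> rw [h] at e
    · exact .inl (S.inj (by rw [e, S.fone, mul_one, mul_inv_cancel]))
    · exact .inr (.inl (S.inj (by rw [e, him n hn 1])))
    · exact .inr (.inr (.inl (S.inj (by rw [e, him n hn 2]))))
    · exact .inr (.inr (.inr (.inl (S.inj (by rw [e, him n hn 4])))))
    · exact .inr (.inr (.inr (.inr (.inl (S.inj (by rw [e, S.fmul, S.fmul, him n hn 1, him n hn 2]; group))))))
    · exact .inr (.inr (.inr (.inr (.inr (.inl (S.inj (by rw [e, S.fmul, S.fmul, him n hn 1, him n hn 4]; group)))))))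
    · exact .inr (.inr (.inr (.inr (.inr (.inr (.inl (S.inj (by rw [e, S.fmul, S.fmul, him n hn 2, him n hn 4]; group))))))))
    · exact .inr (.inr (.inr (.inr (.inr (.inr (.inr (S.inj (by
        rw [e, S.fmul, S.fmul, S.fmul, S.fmul, him n hn 1, him n hn 2, him n hn 4]; group))))))))
  let Φ : N → B := fun n => ⟨(im n.1 n.2 1, im n.1 n.2 2, im n.1 n.2 4), by
    rw [isBasis, List.all_eq_true]
    intro d _
    rw [List.contains_iff_mem]
    obtain ⟨d', hd'⟩ : ∃ d', im n.1 n.2 d' = d := by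
      have hinj : Function.Injective (im n.1 n.2) := fun x y hxy => by
        have h := him n.1 n.2 x
        rw [hxy, him n.1 n.2 y] at h
        exact (eL_facts.2.2.1 y x (S.inj (mul_left_cancel (mul_right_cancel h)))).symm
      exact Finite.injective_iff_surjective.1 hinj d
    rw [← hd']
    exact hspan n.1 n.2 d' (hbasis d')⟩
  have hfib : ∀ n m : N, Φ n = Φ m → (n.1⁻¹ * m.1) ∈ S.E2 := by
    intro n m h
    have h1 := congrArg (fun y : B => y.1) h
    simp only [Φ, Prod.mk.injEq] at h1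
    refine S.centralizer_E2 (mem_centralizer_iff.2 ?_)
    intro x hx
    obtain ⟨d, rfl⟩ := S.E2_cases hx
    have hgen : ∀ e : Fin 8, im n.1 n.2 e = im m.1 m.2 e →
        S.f (eL e) * (n.1⁻¹ * m.1) = n.1⁻¹ * m.1 * S.f (eL e) := by
      intro e he
      have e1 := him n.1 n.2 e
      rw [he, him m.1 m.2 e] at e1
      calc S.f (eL e) * (n.1⁻¹ * m.1) = n.1⁻¹ * (n.1 * S.f (eL e) * n.1⁻¹) * m.1 := by group
        _ = n.1⁻¹ * (m.1 * S.f (eL e) * m.1⁻¹) * m.1 := by rw [e1]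
        _ = _ := by group
    have c1 : Commute (S.f (eL 1)) (n.1⁻¹ * m.1) := hgen 1 h1.1
    have c2 : Commute (S.f (eL 2)) (n.1⁻¹ * m.1) := hgen 2 h1.2.1
    have c4 : Commute (S.f (eL 4)) (n.1⁻¹ * m.1) := hgen 4 h1.2.2
    have hd := hbasis d
    simp only [span3, List.mem_cons, List.not_mem_nil, or_false] at hd
    rcases hd with h | h | h | h | h | h | h | h <;> rw [h]
    · rw [S.fone, one_mul, mul_one]
    · exact c1.eq
    · exact c2.eq
    · exact c4.eq
    · rw [S.fmul]; exact (c1.mul_left c2).eq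
    · rw [S.fmul]; exact (c1.mul_left c4).eq
    · rw [S.fmul]; exact (c2.mul_left c4).eq
    · rw [S.fmul, S.fmul]; exact ((c1.mul_left c2).mul_left c4).eq
  haveI : Fintype N := Fintype.ofFinite N
  have hBcard : Fintype.card B = 168 := (Fintype.card_subtype _).trans basis_facts.1
  have hle : ∀ y ∈ Finset.univ.image Φ, (Finset.univ.filter fun n => Φ n = y).card ≤ 8 := by
    intro y hy
    obtain ⟨n0, -, rfl⟩ := Finset.mem_image.1 hy
    rw [← Fintype.card_subtype, ← Nat.card_eq_fintype_card, ← S.card_E2]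
    refine Nat.card_le_card_of_injective (fun m : {m : N // Φ m = Φ n0} =>
      (⟨n0.1⁻¹ * m.1.1, hfib n0 m.1 m.2.symm⟩ : S.E2)) fun m m' e => ?_
    exact Subtype.ext (Subtype.ext (mul_left_cancel (congrArg Subtype.val e)))
  have hcard : 1344 ≤ 8 * (Finset.univ.image Φ).card := by
    rw [← S.card_normalizer hF, Nat.card_eq_fintype_card]
    exact Finset.card_le_mul_card_image Finset.univ 8 hle
  have hall : Finset.univ.image Φ = Finset.univ :=
    Finset.eq_univ_of_card _ (le_antisymm (Finset.card_le_univ _) (by rw [hBcard]; omega))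
  obtain ⟨n, -, hn⟩ := Finset.mem_image.1 (hall ▸ Finset.mem_univ (⟨(a, b, c), h⟩ : B))
  have h1 := congrArg (fun y : B => y.1) hn
  simp only [Φ, Prod.mk.injEq] at h1
  refine ⟨n.1, n.2, ?_, ?_, ?_⟩
  · rw [← h1.1, him]; rfl
  · rw [← h1.2.1, him]; rfl
  · rw [← h1.2.2, him, eL_facts.2.2.2.1, S.f_z]

end TabSetup

end Cfsg.Lib.AltEightNine
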