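import Cfsg.Agent.Lib.AltEightNine.Local.Eight

/-!
# Fusion of the six classes of involutions of the table group
-/

set_option autoImplicit false
set_option maxRecDepth 100000
set_option linter.unusedSectionVars false
set_option linter.style.haveILetI false

namespace Cfsg.Lib.AltEightNine

open Subgroup

/-- The representatives of the classes of involutions. -/
def bRep (k : ℕ) : Fin 192 :=
  if k = 2 then 60 else if k = 3 then 72 else if k = 4 then 84 else if k = 5 then 1 else if k = 6 then 7 else bZ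

theorem rep_conj : ∀ i : Fin 192, bCls i ≠ 0 → bCls (bRep (bCls i)) = bCls i ∧ ∃ h, bConj h (bRep (bCls i)) = i := by
  decide +kernel

theorem exchange_facts : ∃ v : Fin 192, bCls v = 3 ∧ bCm v 60 = true ∧ bCls (bMul v 60) = 4 ∧
    ∃ c : Fin 8, bMul (bMul v (eL c)) (bMul v (eL c)) = bZ := by decide +kernel

theorem core_comm : ∀ i : Fin 192, (bCls i = 2 ∨ bCls i = 3 ∨ bCls i = 4) →
    ∀ j : Fin 192, (inE 2 j = true ∨ inE 3 j = true ∨ inE 4 j = true) →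
      bMul (bMul i j) (bMul i j) = 0 ∨ bMul (bMul i j) (bMul i j) = bZ := by decide +kernel

theorem twist_cls : ∀ i : Fin 192, (bCls i = 5 ∨ bCls i = 6) →
    (bCls (bMul i bZ) = 5 ∨ bCls (bMul i bZ) = 6) ∧ bCls (bMul i bZ) ≠ bCls i := by decide +kernel

theorem aut_cls : (∀ i : Fin 192, bCls i = 2 → bCls (bCyc i) = 3) ∧ (∀ i, bCls i = 3 → bCls (bCyc i) = 4) ∧
    (∀ i, bCls i = 4 → bCls (bCyc i) = 2) ∧ (∀ i, bCls i = 2 → bCls (bTra i) = 2) ∧
    (∀ i, bCls i = 3 → bCls (bTra i) = 4) ∧ (∀ i, bCls i = 4 → bCls (bTra i) = 3) ∧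
    (∀ i, bCls i = 2 → bCls (bTwi i) = 2) ∧ (∀ i, bCls i = 3 → bCls (bTwi i) = 3) ∧
    (∀ i, bCls i = 4 → bCls (bTwi i) = 4) ∧ (∀ i, bCls i = 5 → bCls (bTwi i) = 6) ∧
    (∀ i, bCls i = 6 → bCls (bTwi i) = 5) := by decide +kernel

universe u

namespace TabSetup

variable {G : Type u} [Group G] [Finite G] (S : TabSetup G)

/-- The classes with a given code are fused to the central involution. -/
def Fus (k : ℕ) : Prop := IsConj S.s (S.f (bRep k))

theorem fus_iff {i : Fin 192} (h : bCls i ≠ 0) : S.Fus (bCls i) ↔ IsConj S.s (S.f i) := by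
  obtain ⟨-, c, hc⟩ := rep_conj i h
  have hconj : IsConj (S.f (bRep (bCls i))) (S.f i) := isConj_iff.2 ⟨S.f c, by rw [← S.fconj, hc]⟩
  exact ⟨fun hf => hf.trans hconj, fun hf => hf.trans hconj.symm⟩

theorem fus_of {i : Fin 192} {k : ℕ} (hk : bCls i = k) (h0 : k ≠ 0) : S.Fus k ↔ IsConj S.s (S.f i) := by
  subst hk; exact S.fus_iff h0

theorem fused2_iff : S.Fused2 ↔ S.Fus 2 := Iff.rfl

theorem conj_eq {g x y : G} : g * x * g⁻¹ = g * y * g⁻¹ ↔ x = y :=
  ⟨fun h => mul_left_cancel (mul_right_cancel h), fun h => h ▸ rfl⟩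

theorem isConj_conj {a g x : G} : IsConj a (g * x * g⁻¹) ↔ IsConj a x :=
  ⟨fun h => h.trans (isConj_iff.2 ⟨g⁻¹, by group⟩), fun h => h.trans (isConj_iff.2 ⟨g, rfl⟩)⟩

/-- When the first class is fused, the other two classes of the core are fused to the two classes outside. -/
theorem exchange (hF : S.Fused2) :
    ∃ k, (k = 5 ∨ k = 6) ∧ (S.Fus 3 ↔ S.Fus k) ∧ (S.Fus 4 ↔ S.Fus (11 - k)) := by
  obtain ⟨g, r', hr', hg, hgs⟩ := S.exists_swap hF
  obtain ⟨v, hv3, hvc, hv4, c, hvw⟩ := exchange_facts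
  have hk : bCls r' ∈ [2, 3, 4] := by rcases hr' with h | h | h <;> simp [h]
  obtain ⟨hv2, hv0, -⟩ := cls_inv v (by rw [hv3]; norm_num)
  have hcomm : g * S.f v * g⁻¹ * S.s = S.s * (g * S.f v * g⁻¹) := by
    rw [← hg, conj_comm]; exact S.cm_iff.2 hvc
  obtain ⟨i, hi⟩ := (S.mem_iff _).1 hcomm
  have hi2 : bMul i i = 0 := S.inj (by
    rw [S.fmul, hi, S.fone, show g * S.f v * g⁻¹ * (g * S.f v * g⁻¹) = g * (S.f v * S.f v) * g⁻¹ by group,
      ← S.fmul, hv2, S.fone, mul_one, mul_inv_cancel])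
  have hi0 : i ≠ 0 := fun e => hv0 (S.inj (by
    rw [e, S.fone, eq_comm, conj_eq_one_iff] at hi; rw [hi, S.fone]))
  have hiz : i ≠ bZ := fun e => by
    rw [e, S.f_z, ← hg, conj_eq] at hi
    rw [show v = (60 : Fin 192) from S.inj hi.symm] at hv3
    exact absurd hv3 (by decide +kernel)
  have he : g * S.f (eL c) * g⁻¹ ∈ S.E (bCls r') hk := by
    have := (((S.char8_iff (r := 60) (Or.inl (by decide +kernel)) (by decide +kernel)).2
      (show S.f (eL c) ∈ S.E (bCls 60) _ from ⟨eL c, eL_facts.1 c, rfl⟩)).conj g).symm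
    rw [hg, hgs] at this
    exact (S.char8_iff hr' hk).1 this
  obtain ⟨j, hj, hje⟩ := he
  have hcls : bCls i = 5 ∨ bCls i = 6 := by
    rcases cls_card i hi2 hi0 hiz with ⟨h, -⟩ | ⟨h, -⟩
    · exfalso
      have hj' : inE 2 j = true ∨ inE 3 j = true ∨ inE 4 j = true := by
        rcases hr' with e | e | e <;> rw [e] at hj
        exacts [.inl hj, .inr (.inl hj), .inr (.inr hj)]
      have hr : S.f r' = S.f (bMul (bMul i j) (bMul i j)) := by
        rw [S.fmul, S.fmul, hi, hje, ← hgs, ← S.f_z, ← hvw, S.fmul, S.fmul]; group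
      rcases core_comm i h j hj' with e | e <;> rw [e] at hr <;> have e' := S.inj hr <;>
        rw [e'] at hr' <;> exact absurd hr' (by decide +kernel)
    · exact h
  have h3 : S.Fus 3 ↔ S.Fus (bCls i) := by
    rw [S.fus_of hv3 (by norm_num), S.fus_iff (by omega), hi, isConj_conj]
  have h4 : S.Fus 4 ↔ S.Fus (bCls (bMul i bZ)) := by
    rw [S.fus_of hv4 (by norm_num), S.fus_iff (by have := (twist_cls i hcls).1; omega),
      show S.f (bMul i bZ) = g * S.f (bMul v 60) * g⁻¹ from ?_, isConj_conj]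
    rw [S.fmul, S.fmul, hi, S.f_z, ← hg]; group
  obtain ⟨ht, hne⟩ := twist_cls i hcls
  refine ⟨bCls i, hcls, h3, ?_⟩
  rw [show 11 - bCls i = bCls (bMul i bZ) by omega]
  exact h4

theorem exists_conj_tab (α : Fin 192 → Fin 192) (hi : Function.Injective α)
    (hm : ∀ i j, α (bMul i j) = bMul (α i) (α j)) (hz : α bZ = bZ) {k l : ℕ}
    (hk : bCls (bRep k) = k) (_hk0 : k ≠ 0) (hl : l ≠ 0) (hcls : ∀ i, bCls i = k → bCls (α i) = l) :
    (S.precomp α hi hm hz).Fus k ↔ S.Fus l := by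
  rw [S.fus_of (hcls _ hk) hl]
  rfl

/-- Up to an automorphism of the table the fused classes are the first one alone, the first two with
one outside, or all. -/
theorem normalise {g : G} {i : Fin 192} (hi : bCls i = 2 ∨ bCls i = 3 ∨ bCls i = 4)
    (hg : g * S.s * g⁻¹ = S.f i) :
    ∃ T : TabSetup G, T.Fus 2 ∧
      ((¬ T.Fus 3 ∧ ¬ T.Fus 4 ∧ ¬ T.Fus 5 ∧ ¬ T.Fus 6) ∨ (T.Fus 3 ∧ ¬ T.Fus 4 ∧ T.Fus 5 ∧ ¬ T.Fus 6) ∨
        (T.Fus 3 ∧ T.Fus 4 ∧ T.Fus 5 ∧ T.Fus 6)) := by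
  obtain ⟨c2, c3, c4, t2, t3, t4, w2, w3, w4, w5, w6⟩ := aut_cls
  obtain ⟨hC, hT, hW⟩ := bAut_hom
  obtain ⟨iC, iT, iW, zC, zT, zW⟩ := bAut_inj
  have hr : ∀ k ∈ [2, 3, 4, 5, 6], bCls (bRep k) = k := by decide +kernel
  have hex : ∃ T : TabSetup G, T.Fus 2 := by
    have hf : S.Fus (bCls i) := (S.fus_iff (by omega)).2 (isConj_iff.2 ⟨g, hg⟩)
    let T := S.precomp bCyc iC hC zC
    rcases hi with h | h | h <;> rw [h] at hf
    · exact ⟨S, hf⟩
    · exact ⟨T, (S.exists_conj_tab bCyc iC hC zC (hr 2 (by simp)) (by norm_num) (by norm_num) c2).2 hf⟩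
    · exact ⟨T.precomp bCyc iC hC zC,
        (T.exists_conj_tab bCyc iC hC zC (hr 2 (by simp)) (by norm_num) (by norm_num) c2).2
          ((S.exists_conj_tab bCyc iC hC zC (hr 3 (by simp)) (by norm_num) (by norm_num) c3).2 hf)⟩
  obtain ⟨T, hT2⟩ := hex
  -- one or both of the other classes of the core
  have hnorm : ∃ U : TabSetup G, U.Fus 2 ∧ (U.Fus 4 → U.Fus 3) := by
    by_cases h : T.Fus 4 ∧ ¬ T.Fus 3
    · exact ⟨T.precomp bTra iT hT zT,
        (T.exists_conj_tab bTra iT hT zT (hr 2 (by simp)) (by norm_num) (by norm_num) t2).2 hT2,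
        fun _ => (T.exists_conj_tab bTra iT hT zT (hr 3 (by simp)) (by norm_num) (by norm_num) t3).2 h.1⟩
    · exact ⟨T, hT2, fun h4 => by_contra fun h3 => h ⟨h4, h3⟩⟩
  obtain ⟨U, hU2, hU43⟩ := hnorm
  obtain ⟨k, hk, e3, e4⟩ := U.exchange hU2
  by_cases h3 : U.Fus 3
  swap
  · have h4 : ¬ U.Fus 4 := fun h => h3 (hU43 h)
    refine ⟨U, hU2, Or.inl ⟨h3, h4, ?_⟩⟩
    rcases hk with rfl | rfl
    · exact ⟨fun h => h3 (e3.2 h), fun h => h4 (e4.2 h)⟩
    · exact ⟨fun h => h4 (e4.2 h), fun h => h3 (e3.2 h)⟩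
  by_cases h4 : U.Fus 4
  · refine ⟨U, hU2, Or.inr (Or.inr ⟨h3, h4, ?_⟩)⟩
    rcases hk with rfl | rfl
    · exact ⟨e3.1 h3, e4.1 h4⟩
    · exact ⟨e4.1 h4, e3.1 h3⟩
  rcases hk with rfl | rfl
  · exact ⟨U, hU2, Or.inr (Or.inl ⟨h3, h4, e3.1 h3, fun h => h4 (e4.2 h)⟩)⟩
  · refine ⟨U.precomp bTwi iW hW zW,
      (U.exists_conj_tab bTwi iW hW zW (hr 2 (by simp)) (by norm_num) (by norm_num) w2).2 hU2, Or.inr (Or.inl ?_)⟩
    rw [U.exists_conj_tab bTwi iW hW zW (hr 3 (by simp)) (by norm_num) (by norm_num) w3,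
      U.exists_conj_tab bTwi iW hW zW (hr 4 (by simp)) (by norm_num) (by norm_num) w4,
      U.exists_conj_tab bTwi iW hW zW (hr 5 (by simp)) (by norm_num) (by norm_num) w5,
      U.exists_conj_tab bTwi iW hW zW (hr 6 (by simp)) (by norm_num) (by norm_num) w6]
    exact ⟨h3, h4, e3.1 h3, fun h => h4 (e4.2 h)⟩

end TabSetup

end Cfsg.Lib.AltEightNine
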