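import Cfsg.Agent.Lib.AltEightNine.Local.Fusion
import Cfsg.Agent.Lib.EightThree.Core
import Cfsg.Agent.Lib.ZStar.Main
import Cfsg.Agent.Lib.Invol.Isolated
import Cfsg.Agent.Lib.Syl34.Functor

/-!
# One fused class of the core: the elementary subgroup of order eight is normal
-/

set_option autoImplicit false
set_option maxRecDepth 100000
set_option linter.unusedSectionVars false
set_option linter.unusedVariables false
set_option linter.style.haveILetI false

namespace Cfsg.Lib.AltEightNine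

open Subgroup

theorem outside_facts : ∀ i : Fin 192, bMul i i = 0 → inE 2 i = false →
    (∀ x : Fin 192, bMul (bMul x x) x = 0 → bCm x i = true → x = 0) ∧
    4 ≤ bCount (fun j => inE 2 j && bCm j i) := by decide +kernel

theorem sq_classes : ∀ i : Fin 192, bMul i i = 0 → i ≠ 0 →
    bCls i = 1 ∨ bCls i = 2 ∨ bCls i = 3 ∨ bCls i = 4 ∨ bCls i = 5 ∨ bCls i = 6 := by decide +kernel

universe u

namespace TabSetup

variable {G : Type u} [Group G] [Finite G] (S : TabSetup G) (hF : S.Fus 2)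
  (hone : ¬ S.Fus 3 ∧ ¬ S.Fus 4 ∧ ¬ S.Fus 5 ∧ ¬ S.Fus 6)

omit hone in
include hF in
/-- An involution of the normaliser is conjugate in it into the centraliser. -/
theorem exists_conj_cent {x : G} (hx : x ∈ normalizer (S.E2 : Set G)) (h2 : x * x = 1) :
    ∃ n ∈ normalizer (S.E2 : Set G), ∃ i, S.f i = n * x * n⁻¹ := by
  classical
  haveI : Fact (Nat.Prime 2) := ⟨Nat.prime_two⟩
  let O : Set G := {y | y ∈ S.E2 ∧ y ≠ 1}
  have hxs : ∀ y ∈ O, x * y * x ∈ O := by
    rintro y ⟨hy, hy1⟩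
    have hxi : x⁻¹ = x := inv_eq_of_mul_eq_one_left h2
    refine ⟨?_, fun h => hy1 ?_⟩
    · have := (mem_normalizer_iff.1 hx y).1 hy
      rwa [hxi] at this
    · rw [← conj_eq_one_iff (a := x) (b := y), hxi]; exact h
  obtain ⟨y, hy, hxy⟩ : ∃ y ∈ O, x * y * x = y := by
    by_contra hno
    push Not at hno
    let F : O → O := fun y => ⟨x * y.1 * x, hxs y.1 y.2⟩
    haveI : Fintype O := Fintype.ofFinite O
    have hinv : Function.Involutive F := fun y => Subtype.ext (by
      show x * (x * y.1 * x) * x = y.1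
      rw [show x * (x * y.1 * x) * x = (x * x) * y.1 * (x * x) by group, h2, one_mul, mul_one])
    have hp := Equiv.Perm.card_fixedPoints_modEq (p := 2) (n := 1) (f := F) (by
      funext y
      exact hinv y)
    have hempty : Function.fixedPoints F = ∅ := by
      ext y
      simp only [Function.mem_fixedPoints, Set.mem_empty_iff_false, iff_false]
      exact fun e => hno y.1 y.2 (congrArg Subtype.val e)
    have h7 : Fintype.card O = 7 := by
      rw [← Nat.card_eq_fintype_card, Nat.card_coe_set_eq, show O = (S.E2 : Set G) \ {1} from rfl,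
        Set.ncard_sdiff_singleton_of_mem (one_mem _), ← Nat.card_coe_set_eq]
      show Nat.card S.E2 - 1 = 7
      rw [S.card_E2]
    rw [h7] at hp
    simp only [hempty] at hp
    simp [Nat.ModEq] at hp
  obtain ⟨⟨j, hj, rfl⟩, hy1⟩ := hy
  obtain ⟨n, hn, hns⟩ := S.trans_E2 hF hj fun e => hy1 (by rw [e, S.fone])
  refine ⟨n⁻¹, inv_mem hn, (S.mem_iff _).1 ?_⟩
  have hc : x * S.f j = S.f j * x := by
    calc x * S.f j = x * (x * S.f j * x) := by rw [hxy]
      _ = (x * x) * S.f j * x := by group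
      _ = S.f j * x := by rw [h2, one_mul]
  rw [← hns] at hc
  calc n⁻¹ * x * n⁻¹⁻¹ * S.s = n⁻¹ * (x * (n * S.s * n⁻¹)) * n := by group
    _ = n⁻¹ * ((n * S.s * n⁻¹) * x) * n := by rw [hc]
    _ = S.s * (n⁻¹ * x * n⁻¹⁻¹) := by group

include hF hone

omit hone in
theorem cent_le {e : G} (he : e ∈ S.E2) (he1 : e ≠ 1) {g : G} (hg : g * e = e * g) :
    g ∈ normalizer (S.E2 : Set G) := by
  obtain ⟨i, hi, rfl⟩ := he
  obtain ⟨n, hn, hns⟩ := S.trans_E2 hF hi fun e => he1 (by rw [e, S.fone])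
  rw [← hns] at hg
  have hc : n⁻¹ * g * n * S.s = S.s * (n⁻¹ * g * n) := by
    calc n⁻¹ * g * n * S.s = n⁻¹ * (g * (n * S.s * n⁻¹)) * n := by group
      _ = n⁻¹ * ((n * S.s * n⁻¹) * g) * n := by rw [hg]
      _ = _ := by group
  have := mul_mem (mul_mem hn (S.le_normalizer_E2 hc)) (inv_mem hn)
  rwa [show n * (n⁻¹ * g * n) * n⁻¹ = g by group] at this

/-- The conjugates of the involution in the normaliser lie in the elementary subgroup. -/
theorem closed {g : G} (hg : g * S.s * g⁻¹ ∈ normalizer (S.E2 : Set G)) : g * S.s * g⁻¹ ∈ S.E2 := by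
  obtain ⟨n, hn, i, hi⟩ := S.exists_conj_cent hF hg (by
    rw [show g * S.s * g⁻¹ * (g * S.s * g⁻¹) = g * (S.s * S.s) * g⁻¹ by group, S.s_sq, mul_one, mul_inv_cancel])
  have hconj : IsConj S.s (S.f i) := isConj_iff.2 ⟨n * g, by rw [hi]; group⟩
  have h2 : bMul i i = 0 := S.inj (by
    rw [S.fmul, hi, S.fone,
      show n * (g * S.s * g⁻¹) * n⁻¹ * (n * (g * S.s * g⁻¹) * n⁻¹) = n * g * (S.s * S.s) * g⁻¹ * n⁻¹ by group,
      S.s_sq]; group)
  have h0 : i ≠ 0 := fun e => S.s_ne (by rw [e, S.fone] at hconj; exact isConj_one_right.1 hconj.symm)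
  have hk : inE 2 i = true := by
    rcases sq_classes i h2 h0 with h | h | h | h | h | h
    · simp [inE, (cls_inv i (by omega)).2.2.2 h]
    · simp [inE, h]
    all_goals exfalso; have hf := (S.fus_iff (by omega : bCls i ≠ 0)).2 hconj; rw [h] at hf
    exacts [hone.1 hf, hone.2.1 hf, hone.2.2.1 hf, hone.2.2.2 hf]
  have := (mem_normalizer_iff.1 hn (g * S.s * g⁻¹)).2 ⟨i, hk, hi⟩
  exact this

theorem mem_of_conj {g e : G} (he : e ∈ S.E2) (he1 : e ≠ 1) (hg : g * e * g⁻¹ ∈ normalizer (S.E2 : Set G)) :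
    g ∈ normalizer (S.E2 : Set G) := by
  obtain ⟨i, hi, rfl⟩ := he
  obtain ⟨n, hn, hns⟩ := S.trans_E2 hF hi fun e => he1 (by rw [e, S.fone])
  rw [← hns, show g * (n * S.s * n⁻¹) * g⁻¹ = g * n * S.s * (g * n)⁻¹ by group] at hg
  obtain ⟨j, hj, hje⟩ := S.closed hF hone hg
  have hj0 : j ≠ 0 := fun e => S.s_ne (by
    rw [e, S.fone, eq_comm, conj_eq_one_iff] at hje; exact hje)
  obtain ⟨m, hm, hms⟩ := S.trans_E2 hF hj hj0
  have hc : m⁻¹ * (g * n) * S.s = S.s * (m⁻¹ * (g * n)) := by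
    calc m⁻¹ * (g * n) * S.s = m⁻¹ * (g * n * S.s * (g * n)⁻¹) * (g * n) := by group
      _ = m⁻¹ * (m * S.s * m⁻¹) * (g * n) := by rw [hms, hje]
      _ = _ := by group
  have := mul_mem (mul_mem hm (S.le_normalizer_E2 hc)) (inv_mem hn)
  rwa [show m * (m⁻¹ * (g * n)) * n⁻¹ = g by group] at this

theorem cent_outside {u : G} (hu : u ∈ normalizer (S.E2 : Set G)) (hu2 : u * u = 1) (huE : u ∉ S.E2) :
    centralizer ({u} : Set G) ≤ normalizer (S.E2 : Set G) := by
  classical
  haveI : Fact (Nat.Prime 2) := ⟨Nat.prime_two⟩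
  haveI : Fact (Nat.Prime 3) := ⟨Nat.prime_three⟩
  haveI : Fact (Nat.Prime 7) := ⟨by norm_num⟩
  obtain ⟨n, hn, i, hi⟩ := S.exists_conj_cent hF hu hu2
  set N := normalizer (S.E2 : Set G) with hN
  have hiE : inE 2 i = false := by
    by_contra h
    rw [Bool.not_eq_false] at h
    exact huE ((mem_normalizer_iff.1 hn u).2 ⟨i, h, hi⟩)
  have hi2 : bMul i i = 0 := S.inj (by
    rw [S.fmul, hi, S.fone, show n * u * n⁻¹ * (n * u * n⁻¹) = n * (u * u) * n⁻¹ by group, hu2, mul_one, mul_inv_cancel])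
  -- it is enough to do it for `S.f i`
  suffices hmain : centralizer ({S.f i} : Set G) ≤ N by
    intro c hc
    have hc' : n * c * n⁻¹ ∈ centralizer ({S.f i} : Set G) := mem_centralizer_singleton_iff.2 (by
      rw [hi, conj_comm]; exact mem_centralizer_singleton_iff.1 hc)
    have := mul_mem (mul_mem (inv_mem hn) (hmain hc')) hn
    rwa [show n⁻¹ * (n * c * n⁻¹) * n = c by group] at this
  obtain ⟨hno3, hE4⟩ := outside_facts i hi2 hiE
  set u' := S.f i with hu'
  set C := centralizer ({u'} : Set G) with hC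
  set E0 : Subgroup G := S.E2 ⊓ C with hE0
  have hu'2 : u' * u' = 1 := by rw [hu', ← S.fmul, hi2, S.fone]
  have hE0card : 4 ≤ Nat.card E0 := by
    refine le_of_le_of_eq hE4 (Eq.symm ?_)
    refine S.card_pred _ _ fun g => ⟨fun ⟨⟨j, hj, e⟩, hg⟩ => ⟨j, ?_, e⟩, ?_⟩
    · subst e
      simp [hj, S.cm_iff.1 (mem_centralizer_singleton_iff.1 hg)]
    · rintro ⟨j, hj, rfl⟩
      simp only [Bool.and_eq_true] at hj
      exact ⟨⟨j, hj.1, rfl⟩, mem_centralizer_singleton_iff.2 (S.cm_iff.2 hj.2)⟩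
  have hE0sq : ∀ e ∈ E0, e * e = 1 := by
    rintro e ⟨⟨j, hj, rfl⟩, -⟩
    rw [← S.fmul, (inE_facts 2 (by decide)).2.2.2.1 j hj, S.fone]
  have hu'N : u' ∈ N := S.le_normalizer_E2 (S.comm_s i)
  have hu'i : u'⁻¹ = u' := inv_eq_of_mul_eq_one_left hu'2
  have hE0N : ∀ g ∈ N ⊓ C, ∀ e ∈ E0, g * e * g⁻¹ ∈ E0 := by
    rintro g ⟨hgN, hgC⟩ e ⟨heE, heC⟩
    exact ⟨(mem_normalizer_iff.1 hgN e).1 heE, C.mul_mem (C.mul_mem hgC heC) (C.inv_mem hgC)⟩
  set T : Subgroup G := N ⊓ C with hT
  -- no element of odd prime order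
  have hodd : ∀ x ∈ T, ∀ e ∈ E0, e ≠ 1 → x * e = e * x → x * x * x = 1 → x = 1 := by
    intro x hx e he he1 hxe hx3
    obtain ⟨⟨j, hj, hje⟩, heC⟩ := he
    subst hje
    obtain ⟨m, hm, hms⟩ := S.trans_E2 hF hj fun e => he1 (by rw [e, S.fone])
    have hc : ∀ y, y * S.f j = S.f j * y → m⁻¹ * y * m * S.s = S.s * (m⁻¹ * y * m) := by
      intro y hy
      rw [← hms] at hy
      calc m⁻¹ * y * m * S.s = m⁻¹ * (y * (m * S.s * m⁻¹)) * m := by group
        _ = m⁻¹ * ((m * S.s * m⁻¹) * y) * m := by rw [hy]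
        _ = _ := by group
    obtain ⟨a, ha⟩ := (S.mem_iff _).1 (hc x hxe)
    obtain ⟨b, hb⟩ := (S.mem_iff _).1 (hc u' (mem_centralizer_singleton_iff.1 heC).symm)
    have hb2 : bMul b b = 0 := S.inj (by
      rw [S.fmul, hb, S.fone, show m⁻¹ * u' * m * (m⁻¹ * u' * m) = m⁻¹ * (u' * u') * m by group, hu'2]; group)
    have hbE : inE 2 b = false := by
      by_contra h
      rw [Bool.not_eq_false] at h
      have := (mem_normalizer_iff.1 hm _).1 (⟨b, h, hb⟩ : m⁻¹ * u' * m ∈ S.E2)
      rw [show m * (m⁻¹ * u' * m) * m⁻¹ = u' by group] at this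
      obtain ⟨k, hk, hke⟩ := this
      rw [S.inj (show S.f k = S.f i from hke)] at hk
      rw [hk] at hiE; exact Bool.noConfusion hiE
    have h0 := (outside_facts b hb2 hbE).1 a (S.inj (by
      rw [S.fmul, S.fmul, ha, S.fone, show m⁻¹ * x * m * (m⁻¹ * x * m) * (m⁻¹ * x * m) = m⁻¹ * (x * x * x) * m by group,
        hx3]; group)) (S.cm_iff.1 (by
      rw [ha, hb]
      have hxu : x * u' = u' * x := mem_centralizer_singleton_iff.1 hx.2
      calc m⁻¹ * x * m * (m⁻¹ * u' * m) = m⁻¹ * (x * u') * m := by group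
        _ = m⁻¹ * (u' * x) * m := by rw [hxu]
        _ = _ := by group))
    rw [h0, S.fone] at ha
    calc x = m * (m⁻¹ * x * m) * m⁻¹ := by group
      _ = 1 := by rw [← ha]; group
  have hfix : ∀ x ∈ T, ∀ p : ℕ, p.Prime → p ≠ 2 → x ^ p = 1 → x = 1 := by
    intro x hx p hp hp2 hxp
    by_contra hx1
    haveI := Fact.mk hp
    have hord : orderOf x = p := orderOf_eq_prime hxp hx1
    have hdvd : p ∣ 1344 := by
      rw [← hord, ← S.card_normalizer hF]; exact orderOf_dvd_natCard N hx.1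
    have hp37 : p = 3 ∨ p = 7 := by
      have h1 : p ∣ 2 ^ 6 * 21 := by norm_num; exact hdvd
      have h2 : p ∣ 21 := ((Nat.coprime_primes hp Nat.prime_two).2 hp2).pow_right 6 |>.dvd_of_dvd_mul_left h1
      have := Nat.le_of_dvd (by norm_num) h2
      interval_cases p <;> first | omega | (norm_num at hp; done)
    -- some nontrivial element of the elementary subgroup is fixed
    obtain ⟨e, heE, he1, hxe⟩ : ∃ e ∈ S.E2, e ≠ 1 ∧ x * e = e * x := by
      by_contra hno
      push Not at hno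
      let O : Set G := {y | y ∈ E0 ∧ y ≠ 1}
      letI : MulAction (zpowers x) O :=
        { smul := fun a y => ⟨(a : G) * y.1 * (a : G)⁻¹, hE0N _ ((zpowers_le.2 hx) a.2) y.1 y.2.1,
            fun h => y.2.2 (conj_eq_one_iff.1 h)⟩
          one_smul := fun y => Subtype.ext (by show (1 : G) * y.1 * (1 : G)⁻¹ = y.1; group)
          mul_smul := fun a b y => Subtype.ext (by
            show (a : G) * b * y.1 * ((a : G) * b)⁻¹ = (a : G) * ((b : G) * y.1 * (b : G)⁻¹) * (a : G)⁻¹; group) }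
      have hpg : IsPGroup p (zpowers x) := IsPGroup.of_card (n := 1) (by rw [Nat.card_zpowers, hord, pow_one])
      have hOcard : Nat.card O = Nat.card E0 - 1 := by
        rw [Nat.card_coe_set_eq, show O = (E0 : Set G) \ {1} from rfl,
          Set.ncard_sdiff_singleton_of_mem (one_mem _), ← Nat.card_coe_set_eq]
        rfl
      have hempty : MulAction.fixedPoints (zpowers x) O = ∅ := by
        ext y
        simp only [MulAction.mem_fixedPoints, Set.mem_empty_iff_false, iff_false]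
        intro h
        exact hno y.1 y.2.1.1 y.2.2 (mul_inv_eq_iff_eq_mul.1 (congrArg Subtype.val (h ⟨x, mem_zpowers x⟩)))
      have hmod := hpg.card_modEq_card_fixedPoints O
      rw [hempty, Nat.card_coe_set_eq ∅, Set.ncard_empty, hOcard] at hmod
      have hle : Nat.card E0 ∣ 8 := S.card_E2 ▸ card_dvd_of_le inf_le_left
      have h : Nat.card E0 = 4 := by
        have := Nat.le_of_dvd (by norm_num) hle
        have h8 : Nat.card E0 ≠ 8 := fun h8 => by
          have he : E0 = S.E2 := Subgroup.eq_of_le_of_card_ge inf_le_left (by rw [S.card_E2, h8])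
          have hu'E : u' ∈ S.E2 := S.centralizer_E2 (mem_centralizer_iff.2 fun y hy =>
            mem_centralizer_singleton_iff.1 (show y ∈ C from (he.ge hy).2))
          obtain ⟨k, hk, hke⟩ := hu'E
          rw [S.inj (show S.f k = S.f i from hke)] at hk
          rw [hk] at hiE; exact Bool.noConfusion hiE
        revert hle h8; interval_cases (Nat.card E0) <;> norm_num
      rcases hp37 with rfl | rfl <;> rw [h] at hmod <;> simp [Nat.ModEq] at hmod
      -- three-element regular on a four-group: a fixed point outside it gives one inside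
      let R : Set G := {y | y ∈ S.E2 ∧ y ∉ E0}
      letI : MulAction (zpowers x) R :=
        { smul := fun a y => ⟨(a : G) * y.1 * (a : G)⁻¹,
            (mem_normalizer_iff.1 ((zpowers_le.2 hx) a.2).1 y.1).1 y.2.1, fun hc => y.2.2 (by
              have := hE0N _ (inv_mem ((zpowers_le.2 hx) a.2)) _ hc
              rwa [show (a : G)⁻¹ * ((a : G) * y.1 * (a : G)⁻¹) * (a : G)⁻¹⁻¹ = y.1 by group] at this)⟩
          one_smul := fun y => Subtype.ext (by show (1 : G) * y.1 * (1 : G)⁻¹ = y.1; group)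
          mul_smul := fun a b y => Subtype.ext (by
            show (a : G) * b * y.1 * ((a : G) * b)⁻¹ = (a : G) * ((b : G) * y.1 * (b : G)⁻¹) * (a : G)⁻¹; group) }
      have hR4 : Nat.card R = 4 := by
        rw [Nat.card_coe_set_eq, show R = (S.E2 : Set G) \ (E0 : Set G) from rfl,
          Set.ncard_sdiff (show (E0 : Set G) ⊆ (S.E2 : Set G) from inf_le_left), ← Nat.card_coe_set_eq,
          ← Nat.card_coe_set_eq]
        show Nat.card S.E2 - Nat.card E0 = 4
        rw [S.card_E2, h]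
      obtain ⟨y, hy⟩ : (MulAction.fixedPoints (zpowers x) R).Nonempty :=
        hpg.nonempty_fixed_point_of_prime_not_dvd_card R (by rw [hR4]; norm_num)
      have hyx : x * y.1 = y.1 * x := mul_inv_eq_iff_eq_mul.1 (congrArg Subtype.val (hy ⟨x, mem_zpowers x⟩))
      refine hno y.1 y.2.1 ?_ hyx
      exact fun e => y.2.2 (e ▸ one_mem E0)
    have huE' : u' * e * u'⁻¹ ∈ S.E2 := (mem_normalizer_iff.1 hu'N e).1 heE
    obtain ⟨e', he', he'1, hxe'⟩ : ∃ e' ∈ E0, e' ≠ 1 ∧ x * e' = e' * x := by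
      by_cases hc : u' * e = e * u'
      · exact ⟨e, ⟨heE, mem_centralizer_singleton_iff.2 hc.symm⟩, he1, hxe⟩
      have hee : e * e = 1 := by
        obtain ⟨j, hj, rfl⟩ := heE
        rw [← S.fmul, (inE_facts 2 (by decide)).2.2.2.1 j hj, S.fone]
      have hcommE : e * (u' * e * u'⁻¹) = u' * e * u'⁻¹ * e := by
        obtain ⟨j, hj, hje⟩ := heE
        obtain ⟨k, hk, hke⟩ := huE'
        rw [← hke, ← hje, ← S.fmul, ← S.fmul, ((inE_facts 2 (by decide)).2.2.1 j hj k hk).2]
      refine ⟨e * (u' * e * u'⁻¹), ⟨mul_mem heE huE', mem_centralizer_singleton_iff.2 ?_⟩, fun h => hc ?_, ?_⟩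
      · refine (mul_inv_eq_iff_eq_mul.1 ?_).symm
        calc u' * (e * (u' * e * u'⁻¹)) * u'⁻¹ = (u' * e * u'⁻¹) * ((u' * u') * e * (u' * u')⁻¹) := by group
          _ = u' * e * u'⁻¹ * e := by rw [hu'2, one_mul, inv_one, mul_one]
          _ = _ := hcommE.symm
      · have : u' * e * u'⁻¹ = e := by
          have := congrArg (e * ·) h
          rwa [← mul_assoc, hee, one_mul, mul_one] at this
        exact mul_inv_eq_iff_eq_mul.1 this
      · have hxu : Commute x u' := mem_centralizer_singleton_iff.1 hx.2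
        exact ((show Commute x e from hxe).mul_right ((hxu.mul_right hxe).mul_right hxu.inv_right)).eq
    rcases hp37 with rfl | rfl
    · exact hx1 (hodd x hx e' he' he'1 hxe' (by rw [← hxp, pow_succ, pow_two]))
    · obtain ⟨j, hj, rfl⟩ := he'.1
      obtain ⟨m, hm, hms⟩ := S.trans_E2 hF hj fun e => he'1 (by rw [e, S.fone])
      rw [← hms] at hxe'
      have hmem : m⁻¹ * x * m ∈ centralizer ({S.s} : Set G) := mem_centralizer_singleton_iff.2 (by
        calc m⁻¹ * x * m * S.s = m⁻¹ * (x * (m * S.s * m⁻¹)) * m := by group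
          _ = m⁻¹ * ((m * S.s * m⁻¹) * x) * m := by rw [hxe']
          _ = _ := by group)
      have h192 : Nat.card (centralizer ({S.s} : Set G)) = 192 := by
        refine (S.card_pred (fun _ => true) (· ∈ centralizer ({S.s} : Set G)) fun g => ?_).trans (by decide +kernel)
        rw [mem_centralizer_singleton_iff, S.mem_iff]; simp
      have := orderOf_dvd_natCard _ hmem
      rw [show m⁻¹ * x * m = m⁻¹ * x * m⁻¹⁻¹ by group, Invol.orderOf_conj_eq, hord, h192] at this
      norm_num at this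
  have hT2 : IsPGroup 2 T := by
    refine IsPGroup.iff_card.2 ?_
    refine ⟨_, Nat.eq_prime_pow_of_unique_prime_dvd Nat.card_pos.ne' fun {p} hp hpd => ?_⟩
    by_contra hp2
    haveI := Fact.mk hp
    obtain ⟨x, hx⟩ := exists_prime_orderOf_dvd_card' (G := T) p hpd
    have := hfix x x.2 p hp hp2 (by rw [← hx, ← SubmonoidClass.coe_pow, pow_orderOf_eq_one]; rfl)
    rw [show x = 1 from Subtype.ext this, orderOf_one] at hx
    exact hp.ne_one hx.symm
  have hE0T : E0 ≤ T := fun e he => ⟨le_normalizer he.1, he.2⟩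
  -- `T` is a Sylow subgroup of the centraliser
  have hTC : T ≤ C := inf_le_right
  obtain ⟨P, hP⟩ := (hT2.of_equiv (subgroupOfEquivOfLe hTC).symm).exists_le_sylow
  have hkey : ∀ g ∈ C, ∀ e ∈ E0, e ≠ 1 → g * e * g⁻¹ ∈ N → g ∈ T := fun g hg e he he1 h =>
    ⟨S.mem_of_conj hF hone he.1 he1 h, hg⟩
  obtain ⟨e0, he0, he01⟩ : ∃ e ∈ E0, e ≠ 1 := by
    by_contra hno
    push Not at hno
    have hbot : E0 = ⊥ := eq_bot_iff.2 fun e he => mem_bot.2 (hno e he)
    have := hbot ▸ hE0card
    rw [card_bot] at this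
    omega
  have hPT : (P : Subgroup C) = T.subgroupOf C := by
    refine le_antisymm ?_ hP
    by_contra hne
    haveI : Group.IsNilpotent ↥(P : Subgroup C) := P.isPGroup'.isNilpotent
    set T' := (T.subgroupOf C).subgroupOf (P : Subgroup C) with hT'
    have hT'top : T' < ⊤ := by
      refine lt_of_le_of_ne le_top fun e => hne fun x hx => ?_
      have : (⟨x, hx⟩ : ↥(P : Subgroup C)) ∈ T' := e ▸ mem_top _
      exact this
    obtain ⟨g, hgN, hgT⟩ := SetLike.exists_of_lt
      (Group.normalizerCondition_of_isNilpotent (G := ↥(P : Subgroup C)) T' hT'top)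
    have he' : (⟨⟨e0, he0.2⟩, hP (show e0 ∈ T from hE0T he0)⟩ : ↥(P : Subgroup C)) ∈ T' := hE0T he0
    have := (mem_normalizer_iff.1 hgN _).1 he'
    exact hgT (hkey ((g : C) : G) (g : C).2 e0 he0 he01 (this : ((g : C) : G) * e0 * ((g : C) : G)⁻¹ ∈ T).1)
  haveI hnt : Nontrivial E0 := (nontrivial_iff_ne_bot _).2 fun h => he01 (mem_bot.1 (h.le he0))
  have hnorm : (E0.subgroupOf T).Normal := ⟨fun e he g => hE0N g g.2 e he⟩
  obtain ⟨z, hzE, hz2, hzc⟩ := FTCons.exists_central_involution hT2 (N := E0.subgroupOf T)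
    (fun h => he01 (congrArg Subtype.val (mem_bot.1 (h.le (show (⟨e0, hE0T he0⟩ : T) ∈ E0.subgroupOf T from he0)))))
  have hzE0 : (z : G) ∈ E0 := hzE
  have hz1 : (z : G) ≠ 1 := fun e => by
    rw [show z = 1 from Subtype.ext e, orderOf_one] at hz2; norm_num at hz2
  set zc : C := ⟨z, z.2.2⟩ with hzcdef
  have hzo : orderOf zc = 2 := by rw [← orderOf_coe, hzcdef]; show orderOf (z : G) = 2; rw [orderOf_coe, hz2]
  have hiso : ∀ g : C, g * zc * g⁻¹ ∈ P → g * zc * g⁻¹ = zc := by
    intro g hg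
    rw [← SetLike.mem_coe, show (P : Set C) = ((P : Subgroup C) : Set C) from rfl, hPT] at hg
    have hgT : (g : G) ∈ T := hkey g g.2 z hzE0 hz1 (hg : (g : G) * z * (g : G)⁻¹ ∈ T).1
    have := congrArg Subtype.val (hzc ⟨g, hgT⟩).eq
    refine Subtype.ext ?_
    show (g : G) * z * (g : G)⁻¹ = z
    exact mul_inv_eq_iff_eq_mul.2 (by simpa using this)
  have hO : Cfsg.oddCore C = ⊥ := by
    have hodd' : Odd (Nat.card (Cfsg.oddCore C)) := Lib.ZStar.odd_card_oddCore
    set R := Cfsg.oddCore C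
    have hsq : ∀ e ∈ E0.subgroupOf C, e * e = 1 := fun e he => Subtype.ext (hE0sq _ he)
    refine le_bot_iff.1 ((EightThree.le_iSup_of_four hsq (by
      rw [Nat.card_congr (subgroupOfEquivOfLe (inf_le_right : E0 ≤ C)).toEquiv]; exact hE0card)
      (by rw [normalizer_eq_top_iff.2 (inferInstance : R.Normal)]; exact le_top) hodd').trans (iSup_le ?_))
    rintro ⟨e, heE, he1⟩ x ⟨hxR, hxc⟩
    rw [mem_bot]
    have hxT : (x : G) ∈ T := hkey x x.2 e heE (fun h => he1 (Subtype.ext h)) (by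
      have := congrArg Subtype.val (mem_centralizer_singleton_iff.1 hxc)
      simp only [coe_mul] at this
      rw [this, mul_inv_cancel_right]; exact le_normalizer heE.1)
    obtain ⟨k, hk⟩ := IsPGroup.iff_card.1 hT2
    have h2 : orderOf (x : G) ∣ 2 ^ k := hk ▸ orderOf_dvd_natCard T hxT
    have h1 : orderOf (x : G) ∣ Nat.card R := by rw [orderOf_coe]; exact orderOf_dvd_natCard R hxR
    refine Subtype.ext ?_
    rw [OneMemClass.coe_one, ← orderOf_eq_one_iff]
    exact Nat.eq_one_of_dvd_coprimes ((Nat.coprime_two_left.2 hodd').pow_left k) h2 h1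
  have hcen := Lib.ZStar.mem_center_of_isolated hO (Invol.isolated_of_sylow P hzo hiso)
  intro g hg
  exact S.cent_le hF hzE0.1 hz1 (congrArg Subtype.val (mem_center_iff.1 hcen ⟨g, hg⟩))

/-- The normaliser is the whole group. -/
theorem normalizer_eq_top : normalizer (S.E2 : Set G) = ⊤ := by
  set N := normalizer (S.E2 : Set G) with hN
  by_contra hne
  have hs : orderOf S.s = 2 := orderOf_eq_prime (by rw [pow_two, S.s_sq]) S.s_ne
  have heven : Even (Nat.card N) := by rw [hN, S.card_normalizer hF]; norm_num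
  have hse : Cfsg.IsStronglyEmbedded N := (Invol.stronglyEmbedded_iff hne heven).2 fun t ht ht2 g hg => by
    have ht1 : t * t = 1 := by rw [← pow_two, ← ht2, pow_orderOf_eq_one]
    by_cases htE : t ∈ S.E2
    · exact S.mem_of_conj hF hone htE (fun e => by rw [e, orderOf_one] at ht2; norm_num at ht2) hg
    by_cases htE' : g * t * g⁻¹ ∈ S.E2
    · have hg' := S.mem_of_conj hF hone htE' (g := g⁻¹) (fun e => by
        rw [conj_eq_one_iff] at e; rw [e, orderOf_one] at ht2; norm_num at ht2)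
        (by rwa [show g⁻¹ * (g * t * g⁻¹) * g⁻¹⁻¹ = t by group])
      exact inv_mem_iff.1 hg'
    -- a nontrivial element of the elementary subgroup commuting with `t`
    obtain ⟨n, hn, i, hi⟩ := S.exists_conj_cent hF ht ht1
    have he : n⁻¹ * S.s * n ∈ S.E2 := by
      have := (mem_normalizer_iff.1 (inv_mem hn) S.s).1 S.s_mem_E2
      rwa [inv_inv] at this
    refine S.mem_of_conj hF hone he (fun e => S.s_ne ?_) ?_
    · calc S.s = n * (n⁻¹ * S.s * n) * n⁻¹ := by group
        _ = 1 := by rw [e]; group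
    · refine S.cent_outside hF hone hg ?_ htE' (mem_centralizer_singleton_iff.2 ?_)
      · rw [show g * t * g⁻¹ * (g * t * g⁻¹) = g * (t * t) * g⁻¹ by group, ht1, mul_one, mul_inv_cancel]
      · rw [conj_comm]
        have h := S.comm_s i
        rw [hi] at h
        calc n⁻¹ * S.s * n * t = n⁻¹ * (S.s * (n * t * n⁻¹)) * n := by group
          _ = n⁻¹ * (n * t * n⁻¹ * S.s) * n := by rw [h]
          _ = _ := by group
  have h72 : orderOf (S.f (bRep 3)) = 2 := orderOf_eq_prime
    (by rw [pow_two, ← S.fmul, show bMul (bRep 3) (bRep 3) = 0 by decide +kernel, S.fone])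
    (fun e => absurd (S.inj (e.trans S.fone.symm)) (by decide +kernel))
  exact hone.1 (Syl34.isConj_of_stronglyEmbedded hse hs h72)

/-- One fused class: an elementary abelian normal subgroup of order eight with quotient PSL(3,2). -/
theorem one_class : ∃ (N : Subgroup G) (hN : N.Normal), IsMulCommutative N ∧ (∀ n ∈ N, n ^ 2 = 1) ∧ Nat.card N = 8 ∧
    Nonempty (G ⧸ N ≃* Matrix.ProjectiveSpecialLinearGroup (Fin 3) (ZMod 2)) := by
  have htop := S.normalizer_eq_top hF hone
  haveI hn : S.E2.Normal := normalizer_eq_top_iff.1 htop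
  have hcomm : IsMulCommutative S.E2 := ⟨⟨fun a b => by
    obtain ⟨a, i, hi, rfl⟩ := a
    obtain ⟨b, j, hj, rfl⟩ := b
    refine Subtype.ext ?_
    show S.f i * S.f j = S.f j * S.f i
    rw [← S.fmul, ← S.fmul, ((inE_facts 2 (by decide)).2.2.1 i hi j hj).2]⟩⟩
  have hsq : ∀ n ∈ S.E2, n ^ 2 = 1 := by
    rintro _ ⟨i, hi, rfl⟩
    rw [pow_two, ← S.fmul, (inE_facts 2 (by decide)).2.2.2.1 i hi, S.fone]
  have hcard : Nat.card G = 1344 := by rw [← S.card_normalizer hF, htop, card_top]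
  exact ⟨S.E2, hn, hcomm, hsq, S.card_E2,
    MTwelveLocal1344.quot_psl S.E2 hcomm hsq S.card_E2 S.centralizer_E2 hcard⟩

end TabSetup

end Cfsg.Lib.AltEightNine
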