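import Cfsg.Agent.Lib.AltEightNine.Local.Fusion
import Cfsg.Agent.Lib.Invol.Basic

/-!
# Three fused classes of the core: no such group
-/

set_option autoImplicit false
set_option maxRecDepth 100000
set_option linter.unusedSectionVars false
set_option linter.style.haveILetI false

namespace Cfsg.Lib.AltEightNine

open Subgroup

/-- Membership in the elementary subgroup of order sixteen. -/
def inA (i : Fin 192) : Bool := bCm i 1

/-- The elements of the table normalising it. -/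
def inS (h : Fin 192) : Bool := (List.finRange 192).all fun a => !inA a || inA (bConj h a)

theorem inA_mul : ∀ i, inA i = true → ∀ j, inA j = true → inA (bMul i j) = true ∧ bMul i j = bMul j i := by
  decide +kernel

theorem inA_facts : (∀ i, inA i = true → bMul i i = 0) ∧ bCount inA = 16 ∧ inA bZ = true ∧ inA 1 = true ∧
    bCount inS = 64 ∧ (∀ i, inA i = true → inS i = true) := by
  decide +kernel

theorem core_small : ∀ i : Fin 192, (bCls i = 2 ∨ bCls i = 3 ∨ bCls i = 4) →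
    bCount (fun y => bMul y y == 0 && bCm y i && bCls y < 5) < 16 := by decide +kernel

theorem out_cent : ∀ v : Fin 192, (bCls v = 5 ∨ bCls v = 6) →
    ∃ h : Fin 192, bConj h 1 = v ∨ bConj h 7 = v := by decide +kernel

theorem seven_cent : ∀ y : Fin 192, bCm y 7 = bCm y 1 := by decide +kernel

theorem inS_facts : (∀ h, inS h = true → inA (bMul h h) = true) ∧
    (∀ a, inA a = true → a ≠ 0 → (∀ h, inS h = true → bConj h a = a) → a = bZ) ∧
    (∀ h, inS h = true → inA h = false → bCount (fun a => inA a && bConj h a == a) = 4) := by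
  decide +kernel

theorem inS_comm : ∀ h, inS h = true → ∀ k, inS k = true →
    inA (bMul (bMul h k) (bInv (bMul k h))) = true := by decide +kernel

universe u

namespace TabSetup

variable {G : Type u} [Group G] [Finite G] (S : TabSetup G)

/-- The elementary subgroup of order sixteen. -/
def A16 : Subgroup G where
  carrier := {g | ∃ i, inA i = true ∧ S.f i = g}
  one_mem' := ⟨0, by decide +kernel, S.fone⟩
  mul_mem' := by
    rintro _ _ ⟨i, hi, rfl⟩ ⟨j, hj, rfl⟩
    exact ⟨bMul i j, (inA_mul i hi j hj).1, S.fmul i j⟩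
  inv_mem' := by
    rintro _ ⟨i, hi, rfl⟩
    exact ⟨i, hi, eq_inv_of_mul_eq_one_left (by rw [← S.fmul, inA_facts.1 i hi, S.fone])⟩

theorem card_A16 : Nat.card S.A16 = 16 :=
  (S.card_pred inA (· ∈ S.A16) fun _ => Iff.rfl).trans inA_facts.2.1

theorem s_mem_A16 : S.s ∈ S.A16 := ⟨bZ, inA_facts.2.2.1, S.f_z⟩

theorem centralizer_A16 : centralizer (S.A16 : Set G) ≤ S.A16 := by
  intro g hg
  obtain ⟨i, rfl⟩ := (S.mem_iff g).1 (mem_centralizer_iff.1 hg S.s S.s_mem_A16).symm
  exact ⟨i, S.cm_iff.1 (mem_centralizer_iff.1 hg (S.f 1) ⟨1, inA_facts.2.2.2.1, rfl⟩).symm, rfl⟩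

variable (hall : ∀ k ∈ [2, 3, 4, 5, 6], S.Fus k)
include hall

/-- All involutions of the subgroup of order sixteen are conjugate under its normaliser. -/
theorem trans_A16 {a : G} (ha : a ∈ S.A16) (ha1 : a ≠ 1) :
    ∃ n ∈ normalizer (S.A16 : Set G), n * a * n⁻¹ = S.s := by
  classical
  obtain ⟨i, hi, rfl⟩ := ha
  by_cases hiz : i = bZ
  · exact ⟨1, one_mem _, by simp [hiz, S.f_z]⟩
  have hi0 : i ≠ 0 := fun e => ha1 (by rw [e, S.fone])
  have hconj : IsConj S.s (S.f i) := by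
    have hi2 := inA_facts.1 i hi
    have hc : bCls i ∈ [2, 3, 4, 5, 6] := by
      rcases cls_card i hi2 hi0 hiz with ⟨h | h | h, -⟩ | ⟨h | h, -⟩ <;> simp [h]
    refine (S.fus_iff ?_).1 (hall _ hc)
    intro h0; rw [h0] at hc; simp at hc
  obtain ⟨g, hg⟩ := isConj_iff.1 hconj.symm
  let B : Fin 192 → Prop := fun j => ∃ a ∈ S.A16, g * a * g⁻¹ = S.f j
  have hB : ∀ a ∈ S.A16, ∃ j, B j ∧ g * a * g⁻¹ = S.f j := by
    intro a ha
    have hca : a * S.f i = S.f i * a := by
      obtain ⟨k, hk, rfl⟩ := ha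
      rw [← S.fmul, ← S.fmul, (inA_mul k hk i hi).2]
    have := (conj_comm (g := g)).2 hca
    rw [hg] at this
    obtain ⟨j, hj⟩ := (S.mem_iff _).1 this
    exact ⟨j, ⟨a, ha, hj.symm⟩, hj.symm⟩
  choose im himB him using hB
  let ι : S.A16 → Fin 192 := fun a => im a.1 a.2
  have hι : Function.Injective ι := fun a b h => Subtype.ext (conj_eq (G := G) (g := g) |>.1 (by
    rw [him a.1 a.2, him b.1 b.2]; exact congrArg S.f h))
  have hpair : ∀ a b : S.A16, bMul (ι a) (ι a) = 0 ∧ bCm (ι a) (ι b) = true := by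
    rintro ⟨a, j, hj, rfl⟩ ⟨b, k, hk, rfl⟩
    refine ⟨S.inj ?_, S.cm_iff.1 ?_⟩
    · rw [S.fmul, S.fone, ← him _ _,
        show g * S.f j * g⁻¹ * (g * S.f j * g⁻¹) = g * (S.f j * S.f j) * g⁻¹ by group, ← S.fmul,
        inA_facts.1 j hj, S.fone, mul_one, mul_inv_cancel]
    · rw [← him _ _, ← him _ _, conj_comm, ← S.fmul, ← S.fmul, (inA_mul j hj k hk).2]
  haveI : Fintype S.A16 := Fintype.ofFinite _
  have hcard : (Finset.univ.image ι).card = 16 := by
    rw [Finset.card_image_of_injective _ hι, Finset.card_univ, ← Nat.card_eq_fintype_card, S.card_A16]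
  -- an element outside the core
  obtain ⟨a, hav⟩ : ∃ a : S.A16, bCls (ι a) = 5 ∨ bCls (ι a) = 6 := by
    by_contra hno
    push Not at hno
    have hsmall : ∀ a : S.A16, ι a = 0 ∨ ι a = bZ ∨ bCls (ι a) = 2 ∨ bCls (ι a) = 3 ∨ bCls (ι a) = 4 := by
      intro a
      by_cases h0 : ι a = 0
      · exact Or.inl h0
      by_cases hz : ι a = bZ
      · exact Or.inr (Or.inl hz)
      rcases cls_card _ (hpair a a).1 h0 hz with ⟨h, -⟩ | ⟨h, -⟩
      · exact Or.inr (Or.inr h)
      · have := hno a; omega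
    obtain ⟨b, hb⟩ : ∃ b : S.A16, bCls (ι b) = 2 ∨ bCls (ι b) = 3 ∨ bCls (ι b) = 4 := by
      by_contra hno2
      push Not at hno2
      have hsub : Finset.univ.image ι ⊆ {0, bZ} := by
        intro j hj
        obtain ⟨a, -, rfl⟩ := Finset.mem_image.1 hj
        rcases hsmall a with h | h | h
        · simp [h]
        · simp [h]
        · have := hno2 a; omega
      have := (Finset.card_le_card hsub).trans Finset.card_le_two
      omega
    have hsub : Finset.univ.image ι ⊆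
        ((List.finRange 192).filter fun y => bMul y y == 0 && bCm y (ι b) && bCls y < 5).toFinset := by
      intro j hj
      obtain ⟨a, -, rfl⟩ := Finset.mem_image.1 hj
      have h5 : bCls (ι a) < 5 := by
        rcases hsmall a with h | h | h
        · rw [h]; decide +kernel
        · rw [h]; decide +kernel
        · omega
      simp [(hpair a a).1, (hpair a b).2, h5]
    have h1 := (Finset.card_le_card hsub).trans (List.toFinset_card_le _)
    have h2 := core_small (ι b) hb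
    unfold bCount at h2
    omega
  obtain ⟨h, hh⟩ := out_cent _ hav
  refine ⟨(S.f h)⁻¹ * g, mem_normalizer_fintype fun x hx => ?_, ?_⟩
  · obtain ⟨j, -, hj⟩ : ∃ j, B j ∧ g * x * g⁻¹ = S.f j := ⟨im x hx, himB x hx, him x hx⟩
    have hjc : bCm j (ι a) = true := by
      have : j = ι ⟨x, hx⟩ := S.inj (hj.symm.trans (him x hx))
      rw [this]; exact (hpair ⟨x, hx⟩ a).2
    obtain ⟨k, hk⟩ := (show ∃ k, bConj h k = j from ⟨bConj (bInv h) j, S.inj (by
      rw [S.fconj, S.fconj, S.finv]; group)⟩)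
    refine ⟨k, ?_, ?_⟩
    · have hc := S.cm_iff.2 hjc
      rw [← hk] at hc
      rcases hh with e | e <;> rw [← e, S.fconj, S.fconj, conj_comm, S.cm_iff] at hc
      · exact hc
      · show bCm k 1 = true
        rw [← seven_cent]; exact hc
    · rw [show (S.f h)⁻¹ * g * x * ((S.f h)⁻¹ * g)⁻¹ = (S.f h)⁻¹ * (g * x * g⁻¹) * S.f h by group, hj, ← hk, S.fconj]
      group
  · rw [show (S.f h)⁻¹ * g * S.f i * ((S.f h)⁻¹ * g)⁻¹ = (S.f h)⁻¹ * (g * S.f i * g⁻¹) * S.f h by group, hg,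
      mul_assoc, ← S.comm_s h, inv_mul_cancel_left]

/-- There is no group with all classes of involutions of the table fused. -/
theorem three_classes : False := by
  classical
  haveI : Fact (Nat.Prime 2) := ⟨Nat.prime_two⟩
  haveI : Fact (Nat.Prime 5) := ⟨by norm_num⟩
  set N := normalizer (S.A16 : Set G) with hN
  have hAN : S.A16 ≤ N := le_normalizer
  haveI hAn : (S.A16.subgroupOf N).Normal :=
    (normal_subgroupOf_iff_le_normalizer hAN).2 le_rfl
  letI : MulAction N G := MulAction.compHom G ((MulAut.conj).comp N.subtype)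
  have horb : MulAction.orbit N S.s = (S.A16 : Set G) \ {1} := by
    ext x
    constructor
    · rintro ⟨n, rfl⟩
      exact ⟨(mem_normalizer_iff.1 n.2 S.s).1 S.s_mem_A16, fun h => S.s_ne (conj_eq_one_iff.1 h)⟩
    · rintro ⟨hx, hx1⟩
      obtain ⟨n, hn, hns⟩ := S.trans_A16 hall hx hx1
      exact ⟨⟨n⁻¹, inv_mem hn⟩, by show n⁻¹ * S.s * n⁻¹⁻¹ = x; rw [← hns]; group⟩
  have hSmem : ∀ i, inS i = true → S.f i ∈ N := by
    intro i hi
    refine mem_normalizer_fintype ?_
    rintro _ ⟨a, ha, rfl⟩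
    refine ⟨bConj i a, ?_, S.fconj i a⟩
    have := List.all_eq_true.1 hi a (List.mem_finRange a)
    simpa [ha] using this
  have hSof : ∀ i, S.f i ∈ N → inS i = true := by
    intro i hi
    refine List.all_eq_true.2 fun a _ => ?_
    by_cases ha : inA a = true
    · obtain ⟨b, hb, hbe⟩ := (mem_normalizer_iff.1 hi _).1 ⟨a, ha, rfl⟩
      rw [← S.fconj] at hbe
      rw [← S.inj hbe, hb]; simp
    · simp [ha]
  have hst : Nat.card (MulAction.stabilizer N S.s) = 64 := by
    rw [← inA_facts.2.2.2.2.1, ← S.card_pred inS (fun g => ∃ i, inS i = true ∧ S.f i = g) fun _ => Iff.rfl]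
    refine Nat.card_congr
      ⟨fun n => ⟨((n.1 : N) : G), ?_⟩,
        fun g => ⟨⟨g.1, by obtain ⟨i, hi, e⟩ := g.2; exact e ▸ hSmem i hi⟩, ?_⟩,
        fun _ => rfl, fun _ => rfl⟩
    · obtain ⟨i, hi⟩ := (S.mem_iff _).1 (mul_inv_eq_iff_eq_mul.1 n.2)
      exact ⟨i, hSof i (hi ▸ (n.1 : N).2), hi⟩
    · show g.1 * S.s * g.1⁻¹ = S.s
      obtain ⟨i, -, e⟩ := g.2
      rw [← e, S.comm_s, mul_inv_cancel_right]
  have hN960 : Nat.card N = 960 := by
    have hm := Subgroup.card_mul_index (MulAction.stabilizer N S.s)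
    rw [MulAction.index_stabilizer, horb, Set.ncard_sdiff_singleton_of_mem (one_mem _), ← Nat.card_coe_set_eq,
      show Nat.card (S.A16 : Set G) = 16 from S.card_A16, hst] at hm
    omega
  let A' := S.A16.subgroupOf N
  let π := QuotientGroup.mk' A'
  have hK : Nat.card (N ⧸ A') = 60 := by
    have hm := Subgroup.card_eq_card_quotient_mul_card_subgroup A'
    rw [Nat.card_congr (subgroupOfEquivOfLe hAN).toEquiv, S.card_A16, hN960] at hm
    omega
  let St := MulAction.stabilizer N S.s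
  have hASt : A' ≤ St := by
    intro a ha
    obtain ⟨i, -, hie⟩ := (ha : (a : G) ∈ S.A16)
    show (a : G) * S.s * (a : G)⁻¹ = S.s
    rw [show (a : G) = S.f i from hie.symm, S.comm_s, mul_inv_cancel_right]
  let W : Subgroup (N ⧸ A') := St.map π
  have hW4 : Nat.card W = 4 := by
    have h1 : Nat.card A' * W.index * Nat.card W = 960 := by
      rw [mul_assoc, mul_comm W.index, Subgroup.card_mul_index, hK, Nat.card_congr (subgroupOfEquivOfLe hAN).toEquiv,
        S.card_A16]; norm_num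
    have h2 : W.index = St.index := by
      rw [Subgroup.index_map_eq _ (QuotientGroup.mk'_surjective A') ((QuotientGroup.ker_mk' A').trans_le hASt)]
    have h3 := Subgroup.card_mul_index St
    rw [hst, hN960] at h3
    rw [h2, Nat.card_congr (subgroupOfEquivOfLe hAN).toEquiv, S.card_A16] at h1
    have hSti : St.index = 15 := by omega
    rw [hSti] at h1; omega
  have hlift : ∀ w ∈ W, ∃ n : N, ∃ i, inS i = true ∧ S.f i = (n : G) ∧ π n = w := by
    rintro _ ⟨n, hn, rfl⟩
    obtain ⟨i, hi⟩ := (S.mem_iff _).1 (mul_inv_eq_iff_eq_mul.1 hn)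
    exact ⟨n, i, hSof i (hi ▸ n.2), hi, rfl⟩
  have hWcomm : ∀ v ∈ W, ∀ w ∈ W, v * w = w * v := by
    intro v hv w hw
    obtain ⟨m, i, hi, him, rfl⟩ := hlift v hv
    obtain ⟨n, j, hj, hjn, rfl⟩ := hlift w hw
    rw [← map_mul, ← map_mul, ← mul_inv_eq_one, ← map_inv, ← map_mul, QuotientGroup.mk'_apply, QuotientGroup.eq_one_iff]
    refine ⟨bMul (bMul i j) (bInv (bMul j i)), inS_comm i hi j hj, ?_⟩
    simp [S.fmul, S.finv, him, hjn]
  have hWsq : ∀ w ∈ W, w * w = 1 := by
    intro w hw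
    obtain ⟨n, i, hi, hin, rfl⟩ := hlift w hw
    rw [← map_mul, QuotientGroup.mk'_apply, QuotientGroup.eq_one_iff]
    exact ⟨bMul i i, inS_facts.1 i hi, by simp [S.fmul, hin]⟩
  have hWs : Nat.card W = 2 ^ (Nat.card (N ⧸ A')).factorization 2 := by
    rw [hW4, hK, show (60 : ℕ) = 2 ^ 2 * 15 by norm_num, Nat.factorization_mul (by norm_num) (by norm_num),
      Finsupp.add_apply, Nat.Prime.factorization_pow Nat.prime_two, Finsupp.single_eq_same,
      Nat.factorization_eq_zero_of_not_dvd (by norm_num : ¬ 2 ∣ 15)]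
    norm_num
  let P : Sylow 2 (N ⧸ A') := Sylow.ofCard W hWs
  have hPW : (P : Subgroup (N ⧸ A')) = W := rfl
  have hNW : normalizer ((P : Subgroup (N ⧸ A')) : Set (N ⧸ A')) ≤
      centralizer ((P : Subgroup (N ⧸ A')) : Set (N ⧸ A')) := by
    rw [hPW]
    intro x hx
    obtain ⟨n, rfl⟩ := QuotientGroup.mk'_surjective A' x
    have hnSt : n ∈ St := by
      obtain ⟨j, hj, hje⟩ := (mem_normalizer_iff.1 n.2 S.s).1 S.s_mem_A16
      have hfix : ∀ k, inS k = true → bConj k j = j := by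
        intro k hk
        have hkN : (⟨S.f k, hSmem k hk⟩ : N) ∈ St := by
          show S.f k * S.s * (S.f k)⁻¹ = S.s
          rw [S.comm_s, mul_inv_cancel_right]
        obtain ⟨m, hm, hme⟩ := (mem_normalizer_iff'.1 hx (π (n⁻¹ * ⟨S.f k, hSmem k hk⟩))).2 (by
          rw [← map_mul]
          refine ⟨n * (n⁻¹ * ⟨S.f k, hSmem k hk⟩), ?_, rfl⟩
          rw [mul_inv_cancel_left]; exact hkN)
        rw [← map_mul] at hme
        have hmem : (n⁻¹ * ⟨S.f k, hSmem k hk⟩ * n)⁻¹ * m ∈ A' := by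
          exact QuotientGroup.eq.1 hme.symm
        have hin : n⁻¹ * ⟨S.f k, hSmem k hk⟩ * n ∈ St := by
          have := mul_mem hm (inv_mem (hASt hmem))
          rwa [show m * ((n⁻¹ * ⟨S.f k, hSmem k hk⟩ * n)⁻¹ * m)⁻¹ = n⁻¹ * ⟨S.f k, hSmem k hk⟩ * n by group] at this
        have hin' : ((n : G)⁻¹ * S.f k * n) * S.s * ((n : G)⁻¹ * S.f k * n)⁻¹ = S.s := hin
        refine S.inj ?_
        rw [S.fconj, hje]
        calc S.f k * ((n : G) * S.s * (n : G)⁻¹) * (S.f k)⁻¹
            = (n : G) * (((n : G)⁻¹ * S.f k * n) * S.s * ((n : G)⁻¹ * S.f k * n)⁻¹) * (n : G)⁻¹ := by group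
          _ = _ := by rw [hin']
      have := inS_facts.2.1 j hj (fun e => S.s_ne (by
        rw [e, S.fone, eq_comm, conj_eq_one_iff] at hje; exact hje)) hfix
      rw [this, S.f_z] at hje
      exact hje.symm
    exact mem_centralizer_iff.2 fun w hw => hWcomm w hw _ ⟨n, hnSt, rfl⟩
  have hcompl := MonoidHom.ker_transferSylow_isComplement' P hNW
  set M := (MonoidHom.transferSylow P hNW).ker
  have hM15 : Nat.card M = 15 := by
    have := hcompl.card_mul_card
    rw [hPW, hW4, hK] at this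
    omega
  obtain ⟨⟨c, hcM⟩, hc5⟩ := exists_prime_orderOf_dvd_card' (G := M) 5 (by rw [hM15]; norm_num)
  rw [Subgroup.orderOf_mk] at hc5
  have huniq : ∀ d ∈ M, d ^ 5 = 1 → d ∈ zpowers c := by
    intro d hd hd5
    have hP5 : Nat.card (zpowers (⟨c, hcM⟩ : M)) = 5 ^ (Nat.card M).factorization 5 := by
      rw [Nat.card_zpowers, Subgroup.orderOf_mk, hc5, hM15, show (15 : ℕ) = 5 ^ 1 * 3 by norm_num,
        Nat.factorization_mul (by norm_num) (by norm_num), Finsupp.add_apply,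
        Nat.Prime.factorization_pow (by norm_num : Nat.Prime 5), Finsupp.single_eq_same,
        Nat.factorization_eq_zero_of_not_dvd (by norm_num : ¬ 5 ∣ 3)]
      norm_num
    let P5 : Sylow 5 M := Sylow.ofCard _ hP5
    have hmod := card_sylow_modEq_one 5 M
    have hdvd := P5.card_dvd_index
    have hidx : (P5 : Subgroup M).index = 3 := by
      have := Subgroup.card_mul_index (P5 : Subgroup M)
      rw [hM15, show Nat.card (P5 : Subgroup M) = 5 from by
        show Nat.card (zpowers (⟨c, hcM⟩ : M)) = 5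
        rw [Nat.card_zpowers, Subgroup.orderOf_mk, hc5]] at this
      omega
    rw [hidx] at hdvd
    have h1 : Nat.card (Sylow 5 M) = 1 := by
      rcases (Nat.dvd_prime (by norm_num : Nat.Prime 3)).1 hdvd with h | h
      · exact h
      · rw [h] at hmod; simp [Nat.ModEq] at hmod
    obtain ⟨P', hP'⟩ := (IsPGroup.of_card (n := if d = 1 then 0 else 1) (by
      rw [Nat.card_zpowers]
      split_ifs with h
      · subst h; simp
      · rw [Subgroup.orderOf_mk, orderOf_eq_prime hd5 h]; norm_num) : IsPGroup 5 (zpowers (⟨d, hd⟩ : M))).exists_le_sylow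
    have : Subsingleton (Sylow 5 M) := (Nat.card_eq_one_iff_unique.1 h1).1
    rw [Subsingleton.elim P' P5] at hP'
    obtain ⟨k, hk⟩ := hP' (mem_zpowers _)
    exact ⟨k, congrArg Subtype.val hk⟩
  have hinv : ∀ w ∈ W, w * c * w⁻¹ = c ∨ w * c * w⁻¹ = c⁻¹ := by
    intro w hw
    have hMn : M.Normal := MonoidHom.normal_ker _
    obtain ⟨k, hk⟩ := huniq _ (hMn.conj_mem c hcM w) (by
      rw [conj_pow, ← hc5, pow_orderOf_eq_one, mul_one, mul_inv_cancel])
    have hk' : c ^ k = w * c * w⁻¹ := hk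
    have hkk : c ^ (k * k) = c := by
      rw [zpow_mul, hk', conj_zpow, hk', show w * (w * c * w⁻¹) * w⁻¹ = (w * w) * c * (w * w)⁻¹ by group, hWsq w hw]
      group
    have h5 : (5 : ℤ) ∣ k * k - 1 := by
      rw [show ((5 : ℤ)) = (orderOf c : ℤ) by rw [hc5]; rfl, orderOf_dvd_iff_zpow_eq_one, zpow_sub, hkk, zpow_one,
        mul_inv_cancel]
    rw [show k * k - 1 = (k - 1) * (k + 1) by ring] at h5
    rcases (show Prime (5 : ℤ) from Int.prime_iff_natAbs_prime.2 (by norm_num)).dvd_or_dvd h5 with h | h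
    · left
      rw [show ((5 : ℤ)) = (orderOf c : ℤ) by rw [hc5]; rfl, orderOf_dvd_iff_zpow_eq_one, zpow_sub, zpow_one,
        mul_inv_eq_one] at h
      rw [← hk', h]
    · right
      rw [show ((5 : ℤ)) = (orderOf c : ℤ) by rw [hc5]; rfl, orderOf_dvd_iff_zpow_eq_one, zpow_add, zpow_one] at h
      rw [← hk', eq_inv_of_mul_eq_one_left h]
  obtain ⟨w, hw, hw1, hwc⟩ : ∃ w ∈ W, w ≠ 1 ∧ w * c * w⁻¹ = c := by
    haveI : Nontrivial W := Finite.one_lt_card_iff_nontrivial.1 (by omega)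
    obtain ⟨⟨v, hv⟩, hv1⟩ := exists_ne (1 : W)
    have hv1' : v ≠ 1 := fun e => hv1 (Subtype.ext e)
    obtain ⟨u, hu, hu1, huv⟩ : ∃ u ∈ W, u ≠ 1 ∧ u ≠ v := by
      by_contra hno
      push Not at hno
      have hsub : (W : Set (N ⧸ A')) ⊆ {1, v} := fun u hu => by
        by_cases h : u = 1
        · exact Or.inl h
        · exact Or.inr (hno u hu h)
      have := Set.ncard_le_ncard hsub (Set.toFinite _)
      rw [← Nat.card_coe_set_eq, Set.ncard_pair hv1'.symm] at this
      have h4 : Nat.card (W : Set (N ⧸ A')) = 4 := hW4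
      omega
    rcases hinv v hv with h | h
    · exact ⟨v, hv, hv1', h⟩
    rcases hinv u hu with h' | h'
    · exact ⟨u, hu, hu1, h'⟩
    refine ⟨u * v, mul_mem hu hv, fun e => huv ?_, ?_⟩
    · rw [mul_eq_one_iff_eq_inv, eq_inv_of_mul_eq_one_left (hWsq v hv) |>.symm] at e
      exact e
    · rw [show u * v * c * (u * v)⁻¹ = u * (v * c * v⁻¹) * u⁻¹ by group, h, ← conj_inv, h', inv_inv]
  obtain ⟨n, i, hi, hin, rfl⟩ := hlift w hw
  obtain ⟨m, rfl⟩ := QuotientGroup.mk'_surjective A' c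
  have hiA : inA i = false := by
    by_contra h
    rw [Bool.not_eq_false] at h
    exact hw1 ((QuotientGroup.eq_one_iff n).2 ⟨i, h, hin⟩)
  -- the element of order five permutes the three fixed points
  let F : Set G := {a | a ∈ S.A16 ∧ a ≠ 1 ∧ (n : G) * a * (n : G)⁻¹ = a}
  have hF3 : Nat.card F = 3 := by
    have h4 : Nat.card {a : G // a ∈ S.A16 ∧ (n : G) * a * (n : G)⁻¹ = a} = 4 := by
      rw [S.card_pred (fun a => inA a && bConj i a == a) _ fun g => ⟨?_, ?_⟩]
      · exact inS_facts.2.2 i hi hiA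
      · rintro ⟨⟨a, ha, rfl⟩, hg⟩
        rw [← hin, ← S.fconj] at hg
        exact ⟨a, by simp [ha, S.inj hg], rfl⟩
      · rintro ⟨a, ha, rfl⟩
        simp only [Bool.and_eq_true, beq_iff_eq] at ha
        exact ⟨⟨a, ha.1, rfl⟩, by rw [← hin, ← S.fconj, ha.2]⟩
    have e : F = {a | a ∈ S.A16 ∧ (n : G) * a * (n : G)⁻¹ = a} \ {1} := by
      ext a
      simp only [F, Set.mem_ofPred_eq, Set.mem_sdiff, Set.mem_singleton_iff]
      tauto
    rw [Nat.card_coe_set_eq, e, Set.ncard_sdiff_singleton_of_mem (show (1 : G) ∈ {a : G | a ∈ S.A16 ∧ (n : G) * a * (n : G)⁻¹ = a} from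
        ⟨one_mem S.A16, by rw [mul_one, mul_inv_cancel]⟩),
      ← Nat.card_coe_set_eq]
    show Nat.card {a : G // a ∈ S.A16 ∧ (n : G) * a * (n : G)⁻¹ = a} - 1 = 3
    rw [h4]
  have hcommA : ∀ g ∈ S.A16, ∀ a ∈ S.A16, g * a * g⁻¹ = a := by
    rintro _ ⟨x, hx, rfl⟩ _ ⟨y, hy, rfl⟩
    rw [← S.fmul, (inA_mul x hx y hy).2, S.fmul, mul_inv_cancel_right]
  have hmF : ∀ a ∈ F, (m : G) * a * (m : G)⁻¹ ∈ F := by
    rintro a ⟨ha, ha1, han⟩
    have hma : (m : G) * a * (m : G)⁻¹ ∈ S.A16 := (mem_normalizer_iff.1 m.2 a).1 ha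
    refine ⟨hma, fun e => ha1 (conj_eq_one_iff.1 e), ?_⟩
    have hkA : (m * n)⁻¹ * (n * m) ∈ A' := QuotientGroup.eq.1 (by
      show π (m * n) = π (n * m)
      rw [map_mul, map_mul]; exact (mul_inv_eq_iff_eq_mul.1 hwc).symm)
    set k := (m * n)⁻¹ * (n * m) with hk
    have hnm : n * m = m * n * k := by rw [hk]; group
    have hnm' : (n : G) * m = (m : G) * n * (k : G) := congrArg Subtype.val hnm
    calc (n : G) * ((m : G) * a * (m : G)⁻¹) * (n : G)⁻¹ = ((n : G) * m) * a * ((n : G) * m)⁻¹ := by group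
      _ = (m : G) * ((n : G) * ((k : G) * a * (k : G)⁻¹) * (n : G)⁻¹) * (m : G)⁻¹ := by rw [hnm']; group
      _ = _ := by rw [hcommA (k : G) hkA a ha, han]
  letI : Nonempty F := (Nat.card_pos_iff.1 (by rw [hF3]; norm_num : 0 < Nat.card F)).1
  let σ : Equiv.Perm F := Equiv.ofBijective (fun a : F => (⟨(m : G) * a.1 * (m : G)⁻¹, hmF a.1 a.2⟩ : F))
    (Finite.injective_iff_bijective.1 fun a b e => Subtype.ext (conj_eq.1 (congrArg Subtype.val e)))
  have hσpow : ∀ (j : ℕ) (a : F), ((σ ^ j) a).1 = (m : G) ^ j * a.1 * ((m : G) ^ j)⁻¹ := by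
    intro j
    induction j with
    | zero => intro a; simp
    | succ j ih =>
      intro a
      rw [pow_succ', Equiv.Perm.mul_apply]
      show (m : G) * ((σ ^ j) a).1 * (m : G)⁻¹ = _
      rw [ih, pow_succ' (m : G)]; group
  have hσ5 : σ ^ 5 = 1 := Equiv.ext fun a => Subtype.ext (by
    rw [hσpow]
    have : (m : G) ^ 5 ∈ S.A16 := by
      have := (QuotientGroup.eq_one_iff (m ^ 5)).1 (by
        show π (m ^ 5) = 1
        rw [map_pow, ← hc5, pow_orderOf_eq_one])
      exact this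
    rw [hcommA _ this a.1 a.2.1]; rfl)
  have hσ1 : σ = 1 := by
    rw [← orderOf_eq_one_iff]
    have h6 : orderOf σ ∣ 6 := by
      have := orderOf_dvd_natCard σ
      rwa [Nat.card_perm, hF3] at this
    exact Nat.eq_one_of_dvd_coprimes (by norm_num : Nat.Coprime 5 6) (orderOf_dvd_of_pow_eq_one hσ5) h6
  obtain ⟨a⟩ := (inferInstance : Nonempty F)
  have hma : (m : G) * a.1 * (m : G)⁻¹ = a.1 := congrArg Subtype.val (Equiv.ext_iff.1 hσ1 a)
  obtain ⟨l, hl, hls⟩ := S.trans_A16 hall a.2.1 a.2.2.1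
  set l' : N := ⟨l, hl⟩
  have hmSt : l' * m * l'⁻¹ ∈ St := by
    show (l * m * l⁻¹) * S.s * (l * m * l⁻¹)⁻¹ = S.s
    rw [← hls]
    calc l * m * l⁻¹ * (l * a.1 * l⁻¹) * (l * m * l⁻¹)⁻¹ = l * ((m : G) * a.1 * (m : G)⁻¹) * l⁻¹ := by group
      _ = _ := by rw [hma]
  have hd := orderOf_dvd_natCard W (mem_map_of_mem π hmSt)
  rw [map_mul, map_mul, map_inv, Invol.orderOf_conj_eq, hc5, hW4] at hd
  norm_num at hd

end TabSetup

end Cfsg.Lib.AltEightNine
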